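import Cfsg.Agent.H948.Ppd.Cover
import Cfsg.Agent.H62.FrameSL
import Cfsg.Agent.H61.SUNode
import Cfsg.Agent.Nodes.WittAll

/-!
# `SL_2` at the long nodes of a Witt frame (helper948)

`Fr : Frame H (Fin n)`, `G0` a group of isometries which contains the root elements.

* `exists_nd` : a homomorphism `SL_2(E) → GL(V)` onto the root groups gives an `Nd` of `G0`;
* **`nd_long`** : the nodes `i` with `i + 1 < n`.
-/

set_option autoImplicit false
set_option linter.unusedSectionVars false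

namespace Cfsg.Agent.H948.Ppd

open Cfsg.Agent.ChevalleyStructure.CoxeterGeom Cfsg.Agent.Tits.Roots
open Cfsg.Agent.Nodes.Comb Cfsg.Agent.Nodes.Reps Cfsg.Agent.Nodes.WittRoot Cfsg.Agent.Nodes.BNOf
open Cfsg.Agent.Nodes.RGDLib Cfsg.Agent.Nodes.WittAll Cfsg.Agent.Nodes
open Cfsg.Agent.TitsThree Cfsg.Agent.TitsThree.Siegel Cfsg.Agent.TitsThree.WittFrame Cfsg.Agent.TitsThree.WittWeyl
open Cfsg.Agent.Nodes.TypeC (ng ng_ng ng_fst ng_snd nx)
open Cfsg.Agent.Nodes.WittRGD (Tor mem_Tor rg_sr rg_neg_sr)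
open Cfsg.Agent.H911.SLTwo Cfsg.Agent.H62.FrameSL
open scoped MatrixGroups

variable {F : Type*} [Field F] {V : Type*} [AddCommGroup V] [Module F V] {H : HForm F V} {n : ℕ}
  {Fr : Frame H (Fin n)} {G0 : Subgroup (V ≃ₗ[F] V)} {p : ℕ}

theorem exists_nd (hle : ∀ x, WittRoot.rg Fr x ≤ G0) {i : Fin n} {E : Type*} [Field E] (φ : SL(2, E) →* (V ≃ₗ[F] V))
    (hu : ∀ y, y ∈ WittRoot.rg Fr (sr i) ↔ ∃ t, φ (U t) = y) (hl : ∀ y, y ∈ WittRoot.rg Fr (-sr i) ↔ ∃ t, φ (Lo t) = y)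
    (hm : ∀ s, Mono Fr (φ (hh s)) id) :
    ∃ σ : SL(2, E) →* G0, (∀ g, (σ g : V ≃ₗ[F] V) = φ g) ∧
      Nd ((Tor Fr G0).subgroupOf G0) (fun x => (WittRoot.rg Fr x).subgroupOf G0) i σ := by
  have hmem : ∀ g, φ g ∈ G0 := by
    intro g
    have h1 : Subgroup.closure (Set.range (Cfsg.Agent.ChevalleyStructure.SL2Hom.up (F := E)) ∪ Set.range (Cfsg.Agent.ChevalleyStructure.SL2Hom.lo (F := E))) ≤ G0.comap φ := by
      rw [Subgroup.closure_le]
      rintro _ (⟨a, rfl⟩ | ⟨a, rfl⟩)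
      · exact hle _ ((hu _).2 ⟨a, rfl⟩)
      · exact hle _ ((hl _).2 ⟨a, rfl⟩)
    exact h1 (Cfsg.Agent.ChevalleyStructure.SL2Hom.mem_closure_SL2 g)
  refine ⟨φ.codRestrict G0 hmem, fun g => rfl, ⟨fun y => ?_, fun y => ?_, fun s => ?_⟩⟩
  · rw [Subgroup.mem_subgroupOf, hu]
    exact exists_congr fun t => ⟨fun e => Subtype.ext e, fun e => congrArg Subtype.val e⟩
  · rw [Subgroup.mem_subgroupOf, hl]
    exact exists_congr fun t => ⟨fun e => Subtype.ext e, fun e => congrArg Subtype.val e⟩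
  · rw [Subgroup.mem_subgroupOf]
    exact ⟨hmem _, hm s⟩

theorem phiS_hh {i j : Fin n} (hij : i ≠ j) (s : Fˣ) : Mono Fr (phiS Fr hij (hh s)) id := by
  have hε := H.ε_ne
  have hs0 : (s : F) ≠ 0 := s.ne_zero
  have hs1 : H.σ (s : F) ≠ 0 := by
    intro h
    exact hs0 ((map_eq_zero H.σ).1 h)
  rintro ⟨k, b⟩
  rw [id, phiS_apply, linS_apply]
  simp only [hh00, hh01, hh10, hh11, map_zero, zero_mul, add_zero, sub_zero, zero_add, neg_zero]
  by_cases hk : k = i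
  · subst hk
    cases b
    · refine ⟨H.σ ((s⁻¹ : Fˣ) : F), ?_, ?_⟩
      · intro h
        exact (s⁻¹).ne_zero ((map_eq_zero H.σ).1 h)
      · simp only [hs, hf, hn Fr hij, inv_mul_cancel₀ hε]
        simp only [mul_zero, mul_one, zero_smul, add_zero]
        module
    · refine ⟨s, hs0, ?_⟩
      simp only [hs, H62.FrameSL.ht, hn Fr hij]
      simp only [mul_zero, mul_one, zero_smul, add_zero]
      module
  · by_cases hk' : k = j
    · subst hk'
      cases b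
      · refine ⟨H.σ (s : F), hs1, ?_⟩
        simp only [hs, hf, hn Fr hij.symm, inv_mul_cancel₀ hε]
        simp only [mul_zero, mul_one, zero_smul, add_zero]
        module
      · refine ⟨((s⁻¹ : Fˣ) : F), (s⁻¹).ne_zero, ?_⟩
        simp only [hs, H62.FrameSL.ht, hn Fr hij.symm]
        simp only [mul_zero, mul_one, zero_smul, add_zero]
        module
    · refine ⟨1, one_ne_zero, ?_⟩
      rw [hn Fr hk, hn Fr hk, hn Fr hk', hn Fr hk']
      simp only [mul_zero, zero_smul, add_zero, one_smul]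

/-- **The long nodes.** -/
theorem nd_long (hle : ∀ x, WittRoot.rg Fr x ≤ G0) {i : Fin n} (hi : (i : ℕ) + 1 < n) :
    ∃ σ : SL(2, F) →* G0, Nd ((Tor Fr G0).subgroupOf G0) (fun x => (WittRoot.rg Fr x).subgroupOf G0) i σ := by
  have hij : i ≠ ⟨i + 1, hi⟩ := by
    intro e
    have := congrArg Fin.val e
    simp only at this
    omega
  have hu : ∀ y, y ∈ WittRoot.rg Fr (sr i) ↔ ∃ t, phiS Fr hij (U t) = y := by
    intro y
    rw [rg_sr, PG_ne Fr (H61.SUNode.ne_nx hi), H61.SUNode.nx_of_lt hi, mem_XG]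
    exact exists_congr fun t => eq_comm.trans (iff_of_eq (congrArg (· = y) (phiS_up Fr hij t).symm))
  have hl : ∀ y, y ∈ WittRoot.rg Fr (-sr i) ↔ ∃ t, phiS Fr hij (Lo t) = y := by
    intro y
    rw [rg_neg_sr, PG_ne Fr (a := ng (i, true)) (b := ng (nx i)) (H61.SUNode.ne_nx hi),
      XG_swap Fr (a := ng (i, true)) (b := ng (nx i)) (H61.SUNode.ne_nx hi), H61.SUNode.nx_of_lt hi, mem_XG]
    exact exists_congr fun t => eq_comm.trans (iff_of_eq (congrArg (· = y) (phiS_lo Fr hij t).symm))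
  obtain ⟨σ, -, hσ⟩ := exists_nd hle (phiS Fr hij) hu hl (phiS_hh hij)
  exact ⟨σ, hσ⟩

end Cfsg.Agent.H948.Ppd
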