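import Cfsg.Agent.H948.Ppd.SL
import Cfsg.Agent.H905.DCWrap
import Cfsg.Agent.H925.NatTor

/-!
# The torus of a perfect central extension of a group with a root group datum (helper948)

`Nd T X i σ` : `σ : SL_2(E) → Y` maps the upper (lower) unitriangular matrices onto `X_i` (`X_{-i}`) and the diagonal
matrices into `T`.

* `Nd.inf_le` : `⟨X_i, X_{-i}⟩ ∩ T = σ(diagonal matrices)`;
* `Nd.comm_hh` : `t ∈ T` centralises `σ(hh s)` if `t σ(hh s)` and `σ(hh s) t` act in the same way on `X_i`;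
* `torus_le` : `T` is generated by the `σ_i(hh s)`;
* **`Nd.lift`**, **`lift_comm`**, **`lift_pow`** : `f : Y → G` a central extension by a `p'`-group, `Y` perfect: `Nd` lifts
  to `Y`, the torus of `Y` is commutative and `t ^ p ^ e = t` on it.
-/

set_option autoImplicit false
set_option linter.unusedSectionVars false

namespace Cfsg.Agent.H948.Ppd

open Matrix CoxeterSystem Cfsg.Agent.ChevalleyStructure.CoxeterGeom Cfsg.Agent.Tits.Roots Cfsg.Agent.Tits.Core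
  Cfsg.Agent.Nodes.Reps Cfsg.Agent.Nodes.BNOf Cfsg.Agent.Nodes.RGDLib Cfsg.Agent.Nodes.RGDLift Cfsg.Agent.H911.SLTwo
open scoped MatrixGroups

universe u v w

section nd

variable {I W Y : Type*} [Fintype I] [DecidableEq I] [Group W] [Group Y] {M : CoxeterMatrix I}
  {cs : CoxeterSystem M W} {A : I → I → ℤ} {h : IsCartan M A} {p : ℕ} {T : Subgroup Y} {n : I → Y}
  {X : (I → ℤ) → Subgroup Y}

/-- `σ` maps `SL_2(E)` onto the rank one group of the node `i` -/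
structure Nd (T : Subgroup Y) (X : (I → ℤ) → Subgroup Y) (i : I) {E : Type*} [Field E] (σ : SL(2, E) →* Y) :
    Prop where
  up : ∀ y, y ∈ X (sr i) ↔ ∃ t, σ (U t) = y
  lo : ∀ y, y ∈ X (-sr i) ↔ ∃ t, σ (Lo t) = y
  tor : ∀ s, σ (hh s) ∈ T

variable (R : RGD cs h p T n X) {i : I} {E : Type*} [Field E] {σ : SL(2, E) →* Y} (N : Nd T X i σ)
include R

theorem X_ne (i : I) : X (sr i) ≠ X (-sr i) := by
  intro h0
  apply R.notp i
  rw [← h0, sup_idem]
  exact R.pgrp i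

include N

omit R in
theorem Nd.ww_conj : cj (σ ww) (X (sr i)) = X (-sr i) := by
  ext y
  rw [mem_cj, N.up, N.lo]
  constructor
  · rintro ⟨t, ht⟩
    refine ⟨-t, ?_⟩
    rw [← ww_U, map_mul, map_mul, map_inv, ht]
    group
  · rintro ⟨t, rfl⟩
    refine ⟨-t, ?_⟩
    have h1 := ww_U (-t)
    rw [neg_neg] at h1
    rw [← h1, map_mul, map_mul, map_inv]
    group

theorem Nd.hh_conj (s : Eˣ) : cj (σ (hh s)) (X (sr i)) = X (sr i) := R.tor _ (isRoot_sr cs h i) _ (N.tor s)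

theorem Nd.hh_conj' (s : Eˣ) : cj (σ (hh s)) (X (-sr i)) = X (-sr i) := R.tor _ (isRoot_sr cs h i).neg _ (N.tor s)

omit R in
theorem Nd.U_conj (a : E) : cj (σ (U a)) (X (sr i)) = X (sr i) := cj_eq_of_mem ((N.up _).2 ⟨a, rfl⟩)

omit R in
theorem Nd.Lo_conj (a : E) : cj (σ (Lo a)) (X (-sr i)) = X (-sr i) := cj_eq_of_mem ((N.lo _).2 ⟨a, rfl⟩)

omit R in
theorem Nd.ww_conj' : cj (σ ww) (X (-sr i)) = X (sr i) := by
  have h1 : (ww : SL(2, E)) = ww⁻¹ * (ww * ww) := by group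
  ext y
  rw [mem_cj, N.up, N.lo]
  have key : ∀ t : E, (ww : SL(2, E))⁻¹ * U t * ww = Lo (-t) := by
    intro t
    apply ext' <;> simp only [m00, m01, m10, m11, U00, U01, U10, U11, Lo00, Lo01, Lo10, Lo11, i00, i01, i10, i11,
      ww00, ww01, ww10, ww11] <;> ring
  constructor
  · rintro ⟨t, ht⟩
    refine ⟨-t, ?_⟩
    have h2 := key (-t)
    rw [neg_neg] at h2
    have h3 : σ (Lo t) = (σ ww)⁻¹ * σ (U (-t)) * σ ww := by rw [← h2, map_mul, map_mul, map_inv]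
    rw [h3] at ht
    have h4 : (σ ww)⁻¹ * σ (U (-t)) * σ ww = (σ ww)⁻¹ * y * σ ww := ht
    exact mul_left_cancel (mul_right_cancel h4)
  · rintro ⟨t, rfl⟩
    refine ⟨-t, ?_⟩
    rw [← key, map_mul, map_mul, map_inv]

theorem Nd.lower_zero {x : SL(2, E)} (hx : cj (σ x) (X (sr i)) = X (sr i)) : x.1 1 0 = 0 := by
  by_contra hne
  obtain ⟨a, c, b, rfl⟩ := exists_bruhat hne
  rw [map_mul, map_mul, map_mul, cj_mul, N.U_conj, cj_mul, N.ww_conj, cj_mul, N.hh_conj' R] at hx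
  have h1 := congrArg (cj (σ (U a))⁻¹) hx
  rw [cj_inv_cj] at h1
  have h2 := congrArg (cj (σ (U a))) h1
  rw [h1] at hx
  have h3 : cj (σ (U a))⁻¹ (X (sr i)) = X (sr i) := cj_eq_of_mem (inv_mem ((N.up _).2 ⟨a, rfl⟩))
  rw [h3] at h1
  exact X_ne R i h1.symm

theorem Nd.upper_zero {x : SL(2, E)} (hx : cj (σ x) (X (-sr i)) = X (-sr i)) : x.1 0 1 = 0 := by
  have h1 : cj (σ (ww * x * ww⁻¹)) (X (sr i)) = X (sr i) := by
    have h2 : cj (σ ww)⁻¹ (X (sr i)) = X (-sr i) := by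
      rw [← N.ww_conj', cj_inv_cj]
    rw [map_mul, map_mul, map_inv, cj_mul, h2, cj_mul, hx, N.ww_conj']
  have h2 := N.lower_zero R h1
  simp only [m00, m01, m10, m11, i00, i01, i10, i11, ww00, ww01, ww10, ww11] at h2
  linear_combination -h2

theorem Nd.inj {a : E} (ha : σ (U a) = 1) : a = 0 := by
  by_contra hne
  have h1 := hh_ww (Units.mk0 a hne)
  have h2 : σ (hh (Units.mk0 a hne) * ww) = σ (Lo (-(((Units.mk0 a hne)⁻¹ : Eˣ) : E))) := by
    rw [h1, map_mul, map_mul, Units.val_mk0, ha, one_mul, mul_one]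
  have h3 := N.Lo_conj (-(((Units.mk0 a hne)⁻¹ : Eˣ) : E))
  rw [← h2, map_mul, cj_mul, N.ww_conj', N.hh_conj R] at h3
  exact X_ne R i h3

theorem Nd.U_inj {a b : E} (hab : σ (U a) = σ (U b)) : a = b := by
  have h1 : σ (U (a - b)) = 1 := by
    rw [sub_eq_add_neg, ← U_mul, ← U_inv, map_mul, map_inv, hab, mul_inv_cancel]
  exact sub_eq_zero.1 (N.inj R h1)

theorem Nd.range_eq : σ.range = X (sr i) ⊔ X (-sr i) := by
  apply le_antisymm
  · rintro _ ⟨g, rfl⟩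
    have h1 : Subgroup.closure (Set.range (U (K := E)) ∪ Set.range (Lo (K := E))) ≤
        (X (sr i) ⊔ X (-sr i)).comap σ := by
      rw [Subgroup.closure_le]
      rintro _ (⟨a, rfl⟩ | ⟨a, rfl⟩)
      · exact (le_sup_left : X (sr i) ≤ _) ((N.up _).2 ⟨a, rfl⟩)
      · exact (le_sup_right : X (-sr i) ≤ _) ((N.lo _).2 ⟨a, rfl⟩)
    exact h1 (mem_closure_SL g)
  · refine sup_le ?_ ?_
    · intro y hy
      obtain ⟨a, rfl⟩ := (N.up y).1 hy
      exact ⟨_, rfl⟩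
    · intro y hy
      obtain ⟨a, rfl⟩ := (N.lo y).1 hy
      exact ⟨_, rfl⟩

/-- `⟨X_i, X_{-i}⟩ ∩ T` -/
theorem Nd.inf_le {g : Y} (hg : g ∈ (X (sr i) ⊔ X (-sr i)) ⊓ T) : ∃ s : Eˣ, σ (hh s) = g := by
  obtain ⟨h1, h2⟩ := Subgroup.mem_inf.1 hg
  rw [← N.range_eq R] at h1
  obtain ⟨x, rfl⟩ := h1
  have h3 := N.lower_zero R (R.tor _ (isRoot_sr cs h i) _ h2)
  have h4 := N.upper_zero R (R.tor _ (isRoot_sr cs h i).neg _ h2)
  have hdet := det_eq x
  rw [h3, h4, mul_zero, sub_zero] at hdet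
  refine ⟨⟨x.1 0 0, x.1 1 1, hdet, by rw [mul_comm]; exact hdet⟩, ?_⟩
  congr 1
  apply ext' <;> simp only [hh00, hh01, hh10, hh11]
  · rw [h4]
  · rw [h3]
  · rfl

/-- elements of `T` centralise the rank one tori -/
theorem Nd.comm_hh [Finite E] {t : Y} (ht : t ∈ T)
    (hq : ∀ (s : Eˣ) (a : E), t * σ (hh s) * σ (U a) * (t * σ (hh s))⁻¹ = σ (hh s) * t * σ (U a) * (σ (hh s) * t)⁻¹)
    (s : Eˣ) : t * σ (hh s) * t⁻¹ = σ (hh s) := by
  have hU : ∀ a : E, ∃ b, σ (U b) = t * σ (U a) * t⁻¹ := by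
    intro a
    rw [← N.up, ← R.tor _ (isRoot_sr cs h i) _ ht]
    exact conj_mem_cj.2 ((N.up _).2 ⟨a, rfl⟩)
  have hL : ∀ a : E, ∃ b, σ (Lo b) = t * σ (Lo a) * t⁻¹ := by
    intro a
    rw [← N.lo, ← R.tor _ (isRoot_sr cs h i).neg _ ht]
    exact conj_mem_cj.2 ((N.lo _).2 ⟨a, rfl⟩)
  choose α hα using hU
  choose β hβ using hL
  have hadd : ∀ a b, α (a + b) = α a + α b := by
    intro a b
    apply N.U_inj R
    rw [hα, ← U_mul, ← U_mul, map_mul, map_mul, hα, hα]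
    group
  have hsq : ∀ (s : Eˣ) a, α ((s : E) ^ 2 * a) = (s : E) ^ 2 * α a := by
    intro s a
    apply N.U_inj R
    rw [hα, ← hU, ← hU, map_mul, map_mul, map_mul, map_mul, map_inv, hα]
    have h1 := hq s a
    calc t * (σ (hh s) * σ (U a) * (σ (hh s))⁻¹) * t⁻¹ = t * σ (hh s) * σ (U a) * (t * σ (hh s))⁻¹ := by group
      _ = σ (hh s) * t * σ (U a) * (σ (hh s) * t)⁻¹ := h1
      _ = σ (hh s) * (t * σ (U a) * t⁻¹) * (σ (hh s))⁻¹ := by group
  have hmul := map_eq_mul hadd hsq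
  have h1ne : α 1 ≠ 0 := by
    intro h0
    have h1 := hα 1
    rw [h0, U_zero, map_one] at h1
    have h2 : σ (U (1 : E)) = 1 := by
      have h3 : σ (U (1 : E)) = t⁻¹ * (t * σ (U 1) * t⁻¹) * t := by group
      rw [h3, ← h1]; group
    exact one_ne_zero (N.inj R h2)
  have key : ∀ a : Eˣ, t * σ (hh a * ww) * t⁻¹ = σ (hh (a * Units.mk0 _ h1ne) * ww) := by
    intro a
    set x := α (a : E) with hx
    set y := β (-((a⁻¹ : Eˣ) : E)) with hy
    have e1 : t * σ (hh a * ww) * t⁻¹ = σ (U x * Lo y * U x) := by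
      rw [hh_ww, map_mul, map_mul, map_mul, map_mul, hα, hβ]
      group
    have e2 : cj (σ (ww⁻¹ * (U x * Lo y * U x))) (X (sr i)) = X (sr i) := by
      have h4 : cj (t * σ (hh a * ww) * t⁻¹) (X (sr i)) = X (-sr i) := by
        rw [cj_mul, R.tor _ (isRoot_sr cs h i) _ (inv_mem ht), cj_mul, map_mul, cj_mul, N.ww_conj, N.hh_conj' R,
          R.tor _ (isRoot_sr cs h i).neg _ ht]
      rw [map_mul, cj_mul, ← e1, h4, map_inv, ← N.ww_conj, cj_inv_cj]
    have h5 := N.lower_zero R e2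
    simp only [m00, m01, m10, m11, U00, U01, U10, U11, Lo00, Lo01, Lo10, Lo11, i00, i01, i10, i11,
      ww00, ww01, ww10, ww11] at h5
    have h6 : x * y = -1 := by linear_combination h5
    have hxu : ((a * Units.mk0 _ h1ne : Eˣ) : E) = x := by
      rw [Units.val_mul, Units.val_mk0, hx, hmul (a : E)]
    have hyu : -(((a * Units.mk0 _ h1ne)⁻¹ : Eˣ) : E) = y := by
      have h7 : x ≠ 0 := by rw [← hxu]; exact Units.ne_zero _
      rw [Units.val_inv_eq_inv_val, hxu]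
      apply mul_left_cancel₀ h7
      rw [h6, mul_neg, mul_inv_cancel₀ h7]
    rw [e1, hh_ww, hxu, hyu]
  have e3 : t * σ (hh s) * t⁻¹ = t * σ (hh s * ww) * t⁻¹ * (t * σ (hh 1 * ww) * t⁻¹)⁻¹ := by
    rw [hh_one, one_mul, map_mul]
    group
  rw [e3, key, key, ← map_inv, ← map_mul]
  congr 1
  rw [one_mul, _root_.mul_inv_rev, ← hh_mul]
  group

end nd

/-! ### the torus -/

section torus

variable {I W : Type*} {Y : Type u} [Fintype I] [DecidableEq I] [Group W] [Group Y] {M : CoxeterMatrix I}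
  {cs : CoxeterSystem M W} {A : I → I → ℤ} {h : IsCartan M A} {p : ℕ} {T : Subgroup Y} {n : I → Y}
  {X : (I → ℤ) → Subgroup Y}

/-- `t` is centralised, and a `p ^ e`-th power, for the generators of `T` -/
theorem torus_ind (R : RGD cs h p T n X) [Finite Y] [Finite W] (hG : G1 cs h X = ⊤) {S : Subgroup Y}
    (hS : ∀ i, ∃ (E : Type w) (_ : Field E) (σ : SL(2, E) →* Y), Nd T X i σ ∧ ∀ s, σ (hh s) ∈ S) : T ≤ S := by
  refine (Cfsg.Agent.H925.Nat.T_le_iSup R hG).trans (iSup_le fun i => ?_)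
  obtain ⟨E, _, σ, N, hσ⟩ := hS i
  intro g hg
  obtain ⟨s, rfl⟩ := N.inf_le R hg
  exact hσ s

end torus

/-! ### lifts -/

section lift

variable {I W : Type*} {Y : Type u} {G : Type v} [Fintype I] [DecidableEq I] [Group W] [Finite W] [Group Y] [Finite Y]
  [Group G]
  {M : CoxeterMatrix I} {cs : CoxeterSystem M W} {A : I → I → ℤ} {h : IsCartan M A} {p : ℕ} [hp : Fact p.Prime]
  {T' : Subgroup G} {n' : I → G} {X' : (I → ℤ) → Subgroup G} {f : Y →* G}
  (hf : f.ker ≤ Subgroup.center Y) (hcop : (Nat.card f.ker).Coprime p)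

theorem Lo_pow {E : Type*} [Field E] (x : E) (n : ℕ) : (Lo x : SL(2, E)) ^ n = Lo (n * x) := by
  induction n with
  | zero => rw [pow_zero, Nat.cast_zero, zero_mul, Lo_zero]
  | succ n ih => rw [pow_succ, ih, Lo_mul, Nat.cast_succ]; congr 1; ring

include hf hcop in
/-- **`Nd` lifts.** -/
theorem Nd.lift (R : RGD cs h p T' n' X') {i : I} {E : Type w} [Field E] [CharP E p]
    {σ' : SL(2, E) →* G} (N : Nd T' X' i σ') {σ : SL(2, E) →* Y} (hσ : ∀ x, f (σ x) = σ' x) :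
    Nd (T'.comap f) (fun x => lft p f (X' x)) i σ where
  up y := by
    have hU : ∀ t, σ (U t) ^ p ^ 1 = 1 := by
      intro t
      rw [pow_one, ← map_pow, U_pow, CharP.cast_eq_zero, zero_mul, U_zero, map_one]
    have hP := R.pgrp i
    rw [mem_lft hf hP]
    constructor
    · rintro ⟨h1, k, hk⟩
      obtain ⟨t, ht⟩ := (N.up _).1 h1
      refine ⟨t, ?_⟩
      have h2 : y * (σ (U t))⁻¹ ∈ lft p f (X' (sr i)) :=
        mul_mem ((mem_lft hf hP).2 ⟨h1, k, hk⟩)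
          (inv_mem ((mem_lft hf hP).2 ⟨by rw [hσ, ht]; exact h1, 1, hU t⟩))
      have h3 := eq_one_of_mem_lft hf hcop hP h2 (by rw [map_mul, map_inv, hσ, ht, mul_inv_cancel])
      exact (mul_inv_eq_one.1 h3).symm
    · rintro ⟨t, rfl⟩
      exact ⟨by rw [hσ]; exact (N.up _).2 ⟨t, rfl⟩, 1, hU t⟩
  lo y := by
    have hU : ∀ t, σ (Lo t) ^ p ^ 1 = 1 := by
      intro t
      rw [pow_one, ← map_pow, Lo_pow, CharP.cast_eq_zero, zero_mul, Lo_zero, map_one]
    have hP := R.pgrp' (isRoot_sr cs h i).neg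
    rw [mem_lft hf hP]
    constructor
    · rintro ⟨h1, k, hk⟩
      obtain ⟨t, ht⟩ := (N.lo _).1 h1
      refine ⟨t, ?_⟩
      have h2 : y * (σ (Lo t))⁻¹ ∈ lft p f (X' (-sr i)) :=
        mul_mem ((mem_lft hf hP).2 ⟨h1, k, hk⟩)
          (inv_mem ((mem_lft hf hP).2 ⟨by rw [hσ, ht]; exact h1, 1, hU t⟩))
      have h3 := eq_one_of_mem_lft hf hcop hP h2 (by rw [map_mul, map_inv, hσ, ht, mul_inv_cancel])
      exact (mul_inv_eq_one.1 h3).symm
    · rintro ⟨t, rfl⟩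
      exact ⟨by rw [hσ]; exact (N.lo _).2 ⟨t, rfl⟩, 1, hU t⟩
  tor s := by
    rw [Subgroup.mem_comap, hσ]
    exact N.tor s

variable (hs : Function.Surjective f) (hT' : ∀ s ∈ T', ∀ t ∈ T', s * t = t * s)
  {n : I → Y} (R₁ : RGD cs h p (T'.comap f) n (fun x => lft p f (X' x)))

include hf hcop hT' R₁ in
theorem Nd.lift_comm_hh (R : RGD cs h p T' n' X') {i : I} {E : Type w} [Field E] [Finite E] [CharP E p]
    {σ : SL(2, E) →* Y} (N : Nd (T'.comap f) (fun x => lft p f (X' x)) i σ) {t : Y} (ht : t ∈ T'.comap f)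
    (s : Eˣ) : t * σ (hh s) * t⁻¹ = σ (hh s) := by
  refine N.comm_hh R₁ ht (fun s a => ?_) s
  have hP := R.pgrp i
  have hc : f t * f (σ (hh s)) = f (σ (hh s)) * f t := hT' _ ht _ (N.tor s)
  have h1 : ∀ g ∈ T'.comap f, g * σ (U a) * g⁻¹ ∈ lft p f (X' (sr i)) := by
    intro g hg
    have h2 : cj g (lft p f (X' (sr i))) = lft p f (X' (sr i)) := R₁.tor _ (isRoot_sr cs h i) _ hg
    rw [← h2]
    exact conj_mem_cj.2 ((N.up _).2 ⟨a, rfl⟩)
  have h3 := mul_mem (h1 _ (mul_mem ht (N.tor s))) (inv_mem (h1 _ (mul_mem (N.tor s) ht)))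
  have h4 := eq_one_of_mem_lft hf hcop hP h3 (by
    simp only [map_mul, map_inv]
    rw [hc]
    group)
  exact mul_inv_eq_one.1 h4

include hf hcop hT' R₁ in
/-- **The torus of a perfect central extension is commutative.** -/
theorem lift_comm (hG₁ : G1 cs h (fun x => lft p f (X' x)) = ⊤) (R : RGD cs h p T' n' X')
    (hN : ∀ i, ∃ (E : Type w) (_ : Field E) (_ : Finite E) (_ : CharP E p) (σ : SL(2, E) →* Y),
      Nd (T'.comap f) (fun x => lft p f (X' x)) i σ) : ∀ s ∈ T'.comap f, ∀ t ∈ T'.comap f, s * t = t * s := by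
  intro s hs t ht
  have h1 : T'.comap f ≤ Subgroup.centralizer {t} := by
    refine torus_ind.{u, w} R₁ hG₁ fun i => ?_
    obtain ⟨E, i1, i2, i3, σ, N⟩ := hN i
    refine ⟨E, i1, σ, N, fun a => ?_⟩
    rw [Subgroup.mem_centralizer_singleton_iff]
    have h2 := N.lift_comm_hh hf hcop hT' R₁ R ht a
    rw [mul_inv_eq_iff_eq_mul] at h2
    exact h2.symm
  exact Subgroup.mem_centralizer_singleton_iff.1 (h1 hs)

include hf hcop hT' R₁ in
/-- **The exponent of the torus.** -/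
theorem lift_pow (hG₁ : G1 cs h (fun x => lft p f (X' x)) = ⊤) (R : RGD cs h p T' n' X') {N₀ : ℕ}
    (hN : ∀ i, ∃ (E : Type w) (_ : Field E) (_ : Finite E) (_ : CharP E p) (σ : SL(2, E) →* Y),
      Nd (T'.comap f) (fun x => lft p f (X' x)) i σ ∧ ∀ x : E, x ^ N₀ = x) : ∀ t ∈ T'.comap f, t ^ N₀ = t := by
  have hcomm := lift_comm.{u, v, w} hf hcop hT' R₁ hG₁ R fun i => by
    obtain ⟨E, i1, i2, i3, σ, N, -⟩ := hN i
    exact ⟨E, i1, i2, i3, σ, N⟩
  let S : Subgroup Y :=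
    { carrier := {t | t ∈ T'.comap f ∧ t ^ N₀ = t}
      one_mem' := ⟨one_mem _, one_pow _⟩
      mul_mem' := by
        rintro a b ⟨ha, ha'⟩ ⟨hb, hb'⟩
        refine ⟨mul_mem ha hb, ?_⟩
        rw [(show Commute a b from hcomm a ha b hb).mul_pow, ha', hb']
      inv_mem' := by
        rintro a ⟨ha, ha'⟩
        exact ⟨inv_mem ha, by rw [inv_pow, ha']⟩ }
  have h1 : T'.comap f ≤ S := by
    refine torus_ind.{u, w} R₁ hG₁ fun i => ?_
    obtain ⟨E, i1, i2, i3, σ, N, hE⟩ := hN i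
    refine ⟨E, i1, σ, N, fun a => ⟨N.tor a, ?_⟩⟩
    have h2 : ∀ k : ℕ, hh a ^ k = hh (a ^ k) := by
      intro k
      induction k with
      | zero => rw [pow_zero, pow_zero, hh_one]
      | succ k ih => rw [pow_succ, ih, hh_mul, pow_succ]
    have h3 : a ^ N₀ = a := Units.ext (by rw [Units.val_pow_eq_pow_val, hE])
    rw [← map_pow, h2, h3]
  exact fun t ht => (h1 ht).2

omit hT' R₁ in
include hf hcop hs in
/-- **`Nd` lifts.** -/
theorem Nd.exists_lift (R : RGD cs h p T' n' X') {i : I} {E : Type w} [Field E] [Finite E] [CharP E p]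
    {σ' : SL(2, E) →* G} (N : Nd T' X' i σ') :
    ∃ σ : SL(2, E) →* Y, (∀ x, f (σ x) = σ' x) ∧ Nd (T'.comap f) (fun x => lft p f (X' x)) i σ := by
  obtain ⟨σ, hσ⟩ := exists_lift_hom hf hcop hs σ'
  exact ⟨σ, hσ, N.lift hf hcop R hσ⟩

end lift

/-- **Summary**: a perfect central extension `f : Y → G` with kernel of order prime to `p`, `G` generated by the root
groups of a root group datum with commutative torus `T'` and with homomorphisms `SL_2(E_i) → G` at every node `i`. -/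
theorem cover {I W : Type*} {Y : Type u} {G : Type v} [Fintype I] [DecidableEq I] [Group W] [Finite W] [Group Y]
    [Finite Y] [Group G] {M : CoxeterMatrix I} {cs : CoxeterSystem M W} {A : I → I → ℤ} {h : IsCartan M A} {p : ℕ}
    [hp : Fact p.Prime] {T' : Subgroup G} {n' : I → G} {X' : (I → ℤ) → Subgroup G} {f : Y →* G}
    (hY : commutator Y = ⊤) (hf : f.ker ≤ Subgroup.center Y) (hcop : (Nat.card f.ker).Coprime p)
    (hs : Function.Surjective f) (R : RGD cs h p T' n' X') (hG : G1 cs h X' = ⊤)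
    (hT' : ∀ s ∈ T', ∀ t ∈ T', s * t = t * s) {N₀ : ℕ}
    (hN : ∀ i, ∃ (E : Type w) (_ : Field E) (_ : Finite E) (_ : CharP E p) (σ' : SL(2, E) →* G),
      Nd T' X' i σ' ∧ ∀ x : E, x ^ N₀ = x) :
    ∃ n : I → Y, (∀ i, f (n i) = n' i) ∧ RGD cs h p (T'.comap f) n (fun x => lft p f (X' x)) ∧
      G1 cs h (fun x => lft p f (X' x)) = ⊤ ∧
      (∀ s ∈ T'.comap f, ∀ t ∈ T'.comap f, s * t = t * s) ∧ ∀ t ∈ T'.comap f, t ^ N₀ = t := by
  obtain ⟨n, hn, R₁, hG₁⟩ := Cfsg.Agent.H905.DC.exists_rgd_lift hY hf hcop hs R hG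
  have hN₁ : ∀ i, ∃ (E : Type w) (_ : Field E) (_ : Finite E) (_ : CharP E p) (σ : SL(2, E) →* Y),
      Nd (T'.comap f) (fun x => lft p f (X' x)) i σ ∧ ∀ x : E, x ^ N₀ = x := by
    intro i
    obtain ⟨E, i1, i2, i3, σ', N, hE⟩ := hN i
    obtain ⟨σ, -, N₁⟩ := N.exists_lift hf hcop hs R
    exact ⟨E, i1, i2, i3, σ, N₁, hE⟩
  refine ⟨n, hn, R₁, hG₁, lift_comm.{u, v, w} hf hcop hT' R₁ hG₁ R fun i => ?_,
    lift_pow.{u, v, w} hf hcop hT' R₁ hG₁ R hN₁⟩
  obtain ⟨E, i1, i2, i3, σ, N, -⟩ := hN₁ i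
  exact ⟨E, i1, i2, i3, σ, N⟩

end Cfsg.Agent.H948.Ppd
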