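import Cfsg.Agent.H650.Ppd.Count
import Cfsg.Agent.Nodes.TypeC

/-!
# Vertices and edges of type `B_n` (helper948)

`cs : CoxeterSystem (CoxeterMatrix.B n) W`, Cartan matrix `TypeC.A n`, `R : RGD ..`, `V` simple, `δ = dim V^U`, `i ∉ J`.

* `fn c` : the functional `c` of the `ε`-coordinates on the simple roots; `fire_fn` : the simple reflections act on `c` by `sw`
  (adjacent transpositions, the sign of the last coordinate);
* `closed_all` : a set of vectors stable under the `sw j` is stable under all signed permutations;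
* `exists_co`, `exists_mo` : the orbits of the vertices and the edges;
* **`choose_mul_Le_le`** : `C(n, i + 1) 2 ^ (i + 1) dim Le {i} ≤ 2 dim V`;
* **`dim_ge_first`** : `2 n δ + 2 n (n - 1) dim Io 0 ≤ dim V`, `0 ∉ J`;
* **`dim_ge_last`** : `2 ^ n δ + n 2 ^ (n - 1) dim Io (n - 1) ≤ dim V`, `n - 1 ∉ J`;
* **`four_mul_Le_le`** : `4 n dim Le {i} ≤ 2 dim V`, `i ≥ 1`, `n ≥ 4`.
-/

set_option autoImplicit false
set_option linter.unusedSectionVars false

namespace Cfsg.Agent.H948.Ppd.TypeB

open CoxeterSystem Cfsg.Agent.ChevalleyStructure.CoxeterGeom Cfsg.Agent.Tits.Roots Cfsg.Agent.Tits.Core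
  Cfsg.Agent.Tits.Exchange Cfsg.Agent.Nodes.Reps Cfsg.Agent.Nodes.BNOf Cfsg.Agent.Nodes.StabComb
  Cfsg.Agent.Nodes.Bruhat Cfsg.Agent.Nodes.OppDec Cfsg.Agent.Nodes.LeviDec Cfsg.Agent.KFacts.RgdOpp
  Cfsg.Agent.Omega.CR Cfsg.Agent.Omega.FOne.Lift.Sd Cfsg.Agent.H905.Md Cfsg.Agent.H650.Ppd
open Cfsg.Agent.Nodes.TypeC
open Cfsg.Agent.H905.DC (co fire cf co_one co_mul_simple co_mul_left co_wordProd)

/-! ### the functionals -/

section vec

variable {n : ℕ}

/-- the functional `c` on the simple roots -/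
def fn (c : Fin n → ℤ) (m : Fin n) : ℤ := ∑ k, c k * bt m k

/-- the simple reflections on the functionals -/
def sw (j : Fin n) (c : Fin n → ℤ) : Fin n → ℤ :=
  if h : (j : ℕ) + 1 < n then c ∘ Equiv.swap j ⟨j + 1, h⟩ else Function.update c j (-c j)

theorem fn_add (c d : Fin n → ℤ) : fn (fun k => c k + d k) = fun m => fn c m + fn d m := by
  funext m
  simp only [fn, add_mul, Finset.sum_add_distrib]

theorem fn_apply (c : Fin n → ℤ) (m : Fin n) :
    fn c m = if h : (m : ℕ) + 1 < n then c m - c ⟨m + 1, h⟩ else 2 * c m := by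
  have key : ∀ x : Fin n × Bool, ∑ k, c k * wt x k = (if x.2 then c x.1 else -c x.1) := by
    intro x
    rw [Finset.sum_eq_single x.1]
    · rw [wt_apply, if_pos rfl]
      split_ifs <;> ring
    · intro k _ hk
      rw [wt_apply, if_neg hk, mul_zero]
    · intro hh; exact absurd (Finset.mem_univ _) hh
  unfold fn bt
  simp only [Pi.add_apply, mul_add, Finset.sum_add_distrib]
  rw [key, key]
  unfold nx
  by_cases h1 : (m : ℕ) + 1 < n
  · rw [dif_pos h1, dif_pos h1]
    simp only [if_true, Bool.false_eq_true, if_false]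
    ring
  · rw [dif_neg h1, dif_neg h1]
    simp only [if_true]
    ring

theorem fn_injective : Function.Injective (fn (n := n)) := by
  intro c d hcd
  have key : ∀ t : ℕ, ∀ m : Fin n, n - (m : ℕ) ≤ t → c m = d m := by
    intro t
    induction t with
    | zero =>
      intro m hm
      have := m.2
      omega
    | succ t ih =>
      intro m hm
      have h1 := congrFun hcd m
      rw [fn_apply, fn_apply] at h1
      by_cases h : (m : ℕ) + 1 < n
      · rw [dif_pos h, dif_pos h, ih ⟨m + 1, h⟩ (by simp only; omega)] at h1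
        linarith
      · rw [dif_neg h, dif_neg h] at h1
        linarith
  exact funext fun m => key n m (Nat.sub_le _ _)

theorem fire_fn (c : Fin n → ℤ) (j : Fin n) : fire (A n) (fn c) j = fn (sw j c) := by
  funext m
  change fn c m - A n j m * fn c j = _
  by_cases h : (j : ℕ) + 1 < n
  · have e1 : fn (sw j c) m = ∑ k, c k * bt m (Equiv.swap j ⟨j + 1, h⟩ k) := by
      unfold fn sw
      rw [dif_pos h]
      rw [← Equiv.sum_comp (Equiv.swap j ⟨j + 1, h⟩)]
      refine Finset.sum_congr rfl fun k _ => ?_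
      rw [Function.comp_apply, Equiv.swap_apply_self]
    rw [e1]
    have e2 : fn c j = c j - c ⟨j + 1, h⟩ := by rw [fn_apply, dif_pos h]
    have hne : j ≠ ⟨j + 1, h⟩ := by
      intro e
      have := congrArg Fin.val e
      simp only at this
      omega
    have e3 : ∑ k, c k * bt m (Equiv.swap j ⟨j + 1, h⟩ k) - fn c m =
        (c j - c ⟨j + 1, h⟩) * (bt m ⟨j + 1, h⟩ - bt m j) := by
      unfold fn
      rw [← Finset.sum_sub_distrib]
      rw [Finset.sum_eq_add j ⟨j + 1, h⟩ hne]
      · rw [Equiv.swap_apply_left, Equiv.swap_apply_right]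
        ring
      · intro k _ hk
        rw [Equiv.swap_apply_of_ne_of_ne hk.1 hk.2, sub_self]
      · intro hh; exact absurd (Finset.mem_univ _) hh
      · intro hh; exact absurd (Finset.mem_univ _) hh
    have e4 : A n j m = bt m j - bt m ⟨j + 1, h⟩ := by
      unfold A Cf
      rw [dif_pos h]
    rw [e4, e2]
    linarith [e3]
  · have e2 : fn c j = 2 * c j := by rw [fn_apply, dif_neg h]
    have e4 : A n j m = bt m j := by
      unfold A Cf
      rw [dif_neg h]
    have e1 : fn (sw j c) m - fn c m = -2 * c j * bt m j := by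
      unfold fn sw
      rw [dif_neg h, ← Finset.sum_sub_distrib, Finset.sum_eq_single j]
      · rw [Function.update_self]
        ring
      · intro k _ hk
        rw [Function.update_of_ne hk, sub_self]
      · intro hh; exact absurd (Finset.mem_univ _) hh
    rw [e4, e2]
    linarith [e1]

/-! ### signed permutations -/

variable {S : Set (Fin n → ℤ)}

theorem closed_perm (hS : ∀ j, ∀ c ∈ S, sw j c ∈ S) (σ : Equiv.Perm (Fin n)) : ∀ c ∈ S, c ∘ σ ∈ S := by
  obtain _ | N := n
  · intro c hc
    have : c ∘ σ = c := Subsingleton.elim _ _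
    rwa [this]
  have h1 : σ ∈ Submonoid.closure (Set.range fun i : Fin N => Equiv.swap i.castSucc i.succ) := by
    rw [Equiv.Perm.mclosure_swap_castSucc_succ]
    trivial
  induction h1 using Submonoid.closure_induction with
  | mem x hx =>
    obtain ⟨i, rfl⟩ := hx
    intro c hc
    have h2 := hS i.castSucc c hc
    have h3 : ((i.castSucc : Fin (N + 1)) : ℕ) + 1 < N + 1 := by
      rw [Fin.val_castSucc]
      have := i.2
      omega
    unfold sw at h2
    rw [dif_pos h3] at h2
    exact h2
  | one =>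
    intro c hc
    exact hc
  | mul x y _ _ hx hy =>
    intro c hc
    have := hy _ (hx c hc)
    exact this

theorem closed_flip (hS : ∀ j, ∀ c ∈ S, sw j c ∈ S) (a : Fin n) : ∀ c ∈ S, Function.update c a (-c a) ∈ S := by
  intro c hc
  have hn : 0 < n := Fin.pos a
  let l : Fin n := ⟨n - 1, by omega⟩
  have hl : ¬ (l : ℕ) + 1 < n := by
    change ¬ n - 1 + 1 < n
    omega
  have h1 := closed_perm hS (Equiv.swap a l) c hc
  have h2 := hS l _ h1
  unfold sw at h2
  rw [dif_neg hl] at h2
  have h3 := closed_perm hS (Equiv.swap a l) _ h2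
  convert h3 using 1
  funext k
  rw [Function.comp_apply]
  by_cases hk : k = a
  · subst hk
    rw [Function.update_self, Equiv.swap_apply_left, Function.update_self, Function.comp_apply, Equiv.swap_apply_right]
  · rw [Function.update_of_ne hk]
    have h4 : Equiv.swap a l k ≠ l := by
      intro e
      apply hk
      have := congrArg (Equiv.swap a l) e
      rwa [Equiv.swap_apply_self, Equiv.swap_apply_right] at this
    rw [Function.update_of_ne h4, Function.comp_apply, Equiv.swap_apply_self]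

theorem closed_signs (hS : ∀ j, ∀ c ∈ S, sw j c ∈ S) (t : Finset (Fin n)) :
    ∀ c ∈ S, (fun k => if k ∈ t then -c k else c k) ∈ S := by
  classical
  induction t using Finset.induction_on with
  | empty =>
    intro c hc
    simpa using hc
  | insert a t ha ih =>
    intro c hc
    have h1 := closed_flip hS a _ (ih c hc)
    convert h1 using 1
    funext k
    by_cases hk : k = a
    · subst hk
      rw [Function.update_self, if_pos (Finset.mem_insert_self _ _), if_neg ha]
    · rw [Function.update_of_ne hk]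
      by_cases hk' : k ∈ t
      · rw [if_pos (Finset.mem_insert_of_mem hk'), if_pos hk']
      · rw [if_neg (fun h => (Finset.mem_insert.1 h).elim hk hk'), if_neg hk']

/-- the vector with support `s` and values `e`, on `t` negative -/
def vec (e : ℤ) (x : Finset (Fin n) × Finset (Fin n)) (k : Fin n) : ℤ :=
  if k ∈ x.1 then (if k ∈ x.2 then -e else e) else 0

/-- the index set of the signed vectors of support `k` -/
abbrev Ix (n k : ℕ) : Type := {x : Finset (Fin n) × Finset (Fin n) // x.1.card = k ∧ x.2 ⊆ x.1}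

theorem card_Ix (n k : ℕ) : Fintype.card (Ix n k) = n.choose k * 2 ^ k := by
  classical
  have h1 : Fintype.card (Ix n k) =
      ((Finset.powersetCard k (Finset.univ : Finset (Fin n))).sigma fun s => s.powerset).card := by
    rw [← Fintype.card_coe]
    refine Fintype.card_congr ⟨fun x => ⟨⟨x.1.1, x.1.2⟩, ?_⟩, fun x => ⟨(x.1.1, x.1.2), ?_⟩, fun x => rfl, fun x => rfl⟩
    · rw [Finset.mem_sigma, Finset.mem_powersetCard, Finset.mem_powerset]
      exact ⟨⟨Finset.subset_univ _, x.2.1⟩, x.2.2⟩
    · have h2 := x.2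
      rw [Finset.mem_sigma, Finset.mem_powersetCard, Finset.mem_powerset] at h2
      exact ⟨h2.1.2, h2.2⟩
  rw [h1, Finset.card_sigma, Finset.sum_congr rfl (g := fun _ => 2 ^ k), Finset.sum_const, Finset.card_powersetCard,
    Finset.card_univ, Fintype.card_fin, smul_eq_mul]
  intro s hs
  rw [Finset.card_powerset, (Finset.mem_powersetCard.1 hs).2]

theorem vec_injective {e : ℤ} (he : e ≠ 0) (k : ℕ) : Function.Injective fun x : Ix n k => vec e x.1 := by
  rintro ⟨⟨s, t⟩, h1, h2⟩ ⟨⟨s', t'⟩, h3, h4⟩ h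
  have key : ∀ (s t : Finset (Fin n)) (m : Fin n), vec e (s, t) m ≠ 0 ↔ m ∈ s := by
    intro s t m
    unfold vec
    constructor
    · intro h
      by_contra hm
      exact h (if_neg hm)
    · intro hm
      rw [if_pos hm]
      split_ifs
      · exact neg_ne_zero.2 he
      · exact he
  have hst : s = s' := by
    ext m
    rw [← key s t m, ← key s' t' m]
    have := congrFun h m
    change vec e (s, t) m = vec e (s', t') m at this
    rw [this]
  subst hst
  have htt : t = t' := by
    ext m
    have hm := congrFun h m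
    change vec e (s, t) m = vec e (s, t') m at hm
    unfold vec at hm
    by_cases hms : m ∈ s
    · rw [if_pos hms, if_pos hms] at hm
      simp only at hm
      by_cases hmt : m ∈ t
      · by_cases hmt' : m ∈ t'
        · exact iff_of_true hmt hmt'
        · rw [if_pos hmt, if_neg hmt'] at hm
          exact absurd (by linarith : e = 0) he
      · by_cases hmt' : m ∈ t'
        · rw [if_neg hmt, if_pos hmt'] at hm
          exact absurd (by linarith : e = 0) he
        · exact iff_of_false hmt hmt'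
    · exact iff_of_false (fun h => hms (h2 h)) (fun h => hms (h4 h))
  subst htt
  rfl

/-- all signed vectors of the same support size -/
theorem closed_vec (hS : ∀ j, ∀ c ∈ S, sw j c ∈ S) {e : ℤ} {s₀ : Finset (Fin n)} (h0 : vec e (s₀, ∅) ∈ S)
    (x : Ix n s₀.card) : vec e x.1 ∈ S := by
  classical
  obtain ⟨⟨s, t⟩, h1, h2⟩ := x
  have hst : ∃ σ : Equiv.Perm (Fin n), ∀ m, σ m ∈ s₀ ↔ m ∈ s := by
    let e₀ : {m // m ∈ s} ≃ {m // m ∈ s₀} := Finset.equivOfCardEq h1
    refine ⟨e₀.extendSubtype, fun m => ⟨fun h => ?_, fun h => e₀.extendSubtype_mem m h⟩⟩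
    by_contra hm
    exact e₀.extendSubtype_not_mem m hm h
  obtain ⟨σ, hσ⟩ := hst
  have h3 := closed_signs hS t _ (closed_perm hS σ _ h0)
  convert h3 using 1
  funext m
  change vec e (s, t) m = _
  unfold vec
  simp only [Function.comp_apply, Finset.notMem_empty, if_false]
  by_cases hm : m ∈ s
  · rw [if_pos hm, if_pos ((hσ m).2 hm)]
  · have : m ∉ t := fun h => hm (h2 h)
    rw [if_neg hm, if_neg this, if_neg (fun h => hm ((hσ m).1 h))]

end vec

/-! ### the orbits -/

section orb

variable {n : ℕ} {W : Type*} [Group W] {cs : CoxeterSystem (CoxeterMatrix.B n) W}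

/-- a multiple of the vertex functional is a signed vector -/
theorem co_one_eq (i : Fin n) : ∃ e : ℤ, e ≠ 0 ∧ (e = if (i : ℕ) + 1 < n then 2 else 1) ∧
    (fun m => 2 * co cs (isCartan n) i 1 m) = fn (vec e (Finset.Iic i, ∅)) := by
  refine ⟨if (i : ℕ) + 1 < n then 2 else 1, by split_ifs <;> norm_num, rfl, ?_⟩
  funext m
  rw [co_one, fn_apply]
  unfold vec
  simp only [Finset.mem_Iic, Finset.notMem_empty, if_false, Fin.le_def]
  have hm := m.2
  have hi := i.2
  by_cases hmi : m = i
  · subst hmi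
    rw [sr_self]
    split_ifs <;> omega
  · rw [sr_ne hmi]
    have hmi' : (m : ℕ) ≠ i := fun e => hmi (Fin.ext e)
    split_ifs <;> omega

theorem exists_co {i : Fin n} {e : ℤ} {s₀ : Finset (Fin n)}
    (h0 : ∃ w : W, (fun m => 2 * co cs (isCartan n) i w m) = fn (vec e (s₀, ∅))) (x : Ix n s₀.card) :
    ∃ w : W, (fun m => 2 * co cs (isCartan n) i w m) = fn (vec e x.1) := by
  refine closed_vec (S := {c | ∃ w : W, (fun m => 2 * co cs (isCartan n) i w m) = fn c}) ?_ h0 x
  rintro j c ⟨w, hw⟩
  refine ⟨w * cs.simple j, ?_⟩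
  rw [← fire_fn, ← hw, co_mul_simple]
  funext m
  unfold fire
  ring

theorem exists_mo {i : Fin n} {e : ℤ} {s₀ : Finset (Fin n)}
    (h0 : ∃ w : W, (fun m => 2 * mo cs (isCartan n) i w m) = fn (vec e (s₀, ∅))) (x : Ix n s₀.card) :
    ∃ w : W, (fun m => 2 * mo cs (isCartan n) i w m) = fn (vec e x.1) := by
  refine closed_vec (S := {c | ∃ w : W, (fun m => 2 * mo cs (isCartan n) i w m) = fn c}) ?_ h0 x
  rintro j c ⟨w, hw⟩
  refine ⟨w * cs.simple j, ?_⟩
  rw [← fire_fn, ← hw, mo_mul_simple]
  funext m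
  unfold fire
  ring

theorem mo_one_eq (i : Fin n) (c : Fin n → ℤ) (hc : (fun m => 2 * co cs (isCartan n) i 1 m) = fn c) :
    (fun m => 2 * mo cs (isCartan n) i 1 m) = fn (fun k => c k + sw i c k) := by
  rw [fn_add, ← fire_fn, ← hc]
  funext m
  have h1 : co cs (isCartan n) i (cs.simple i * 1) m = fire (A n) (co cs (isCartan n) i 1) i m := by
    rw [mul_one, ← one_mul (cs.simple i), co_mul_simple]
  unfold mo
  rw [h1]
  unfold fire
  ring

end orb

/-! ### the bounds -/

section main

variable {n : ℕ} {W Y : Type*} [Group W] [Group Y] {cs : CoxeterSystem (CoxeterMatrix.B n) W} {p : ℕ}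
  {T : Subgroup Y} {nn : Fin n → Y} {X : (Fin n → ℤ) → Subgroup Y} {k V : Type*} [Field k] [AddCommGroup V] [Module k V]

/-- the vertices -/
theorem exists_vert (i : Fin n) : ∃ v : Ix n (i + 1) → W, Function.Injective fun a => co cs (isCartan n) i (v a) := by
  obtain ⟨e, he, -, h1⟩ := co_one_eq (cs := cs) i
  have hc : (Finset.Iic i).card = i + 1 := by rw [Fin.card_Iic]
  have h2 : ∀ x : Ix n (i + 1), ∃ w : W, (fun m => 2 * co cs (isCartan n) i w m) = fn (vec e x.1) := by
    intro x
    exact exists_co ⟨1, h1⟩ (⟨x.1, by rw [hc]; exact x.2⟩ : Ix n (Finset.Iic i).card)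
  choose v hv using h2
  refine ⟨v, fun a b hab => vec_injective he _ (fn_injective ?_)⟩
  change fn (vec e a.1) = fn (vec e b.1)
  rw [← hv a, ← hv b]
  funext m
  exact congrArg (2 * ·) (congrFun hab m)

/-- the edges -/
theorem exists_edge (i : Fin n) (e : ℤ) (he : e ≠ 0) (s₀ : Finset (Fin n))
    (h0 : (fun m => 2 * mo cs (isCartan n) i 1 m) = fn (vec e (s₀, ∅))) :
    ∃ u : Ix n s₀.card → W, Function.Injective fun b => mo cs (isCartan n) i (u b) := by
  have h2 : ∀ x : Ix n s₀.card, ∃ w : W, (fun m => 2 * mo cs (isCartan n) i w m) = fn (vec e x.1) :=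
    fun x => exists_mo ⟨1, h0⟩ x
  choose v hv using h2
  refine ⟨v, fun a b hab => vec_injective he _ (fn_injective ?_)⟩
  change fn (vec e a.1) = fn (vec e b.1)
  rw [← hv a, ← hv b]
  funext m
  exact congrArg (2 * ·) (congrFun hab m)

variable (R : RGD cs (isCartan n) p T nn X) [Finite Y] [Finite W] [Fact p.Prime] [CharP k p]
  {ρ : Y →* Module.End k V} [FiniteDimensional k V] [Nontrivial V]
  (hirr : ∀ L : Submodule k V, Ivt ρ (GG cs (isCartan n) T X) L → L = ⊥ ∨ L = ⊤)
include R hirr

/-- **All nodes**: `C(n, i + 1) 2 ^ (i + 1) dim Le {i} ≤ 2 dim V`. -/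
theorem choose_mul_Le_le {i : Fin n} (hi : i ∉ Jx cs (isCartan n) X ρ) :
    (n.choose (i + 1) * 2 ^ ((i : ℕ) + 1)) * Module.finrank k (Le cs (isCartan n) T X ρ {i}) ≤
      2 * Module.finrank k V := by
  obtain ⟨v, hv⟩ := exists_vert (cs := cs) i
  have h1 := edge_half R hirr hi v hv
  rwa [card_Ix] at h1

/-- **The first node**: `2 n δ + 2 n (n - 1) dim Io 0 ≤ dim V`. -/
theorem dim_ge_first (hn : 2 ≤ n) {i : Fin n} (h0 : (i : ℕ) = 0) (hi : i ∉ Jx cs (isCartan n) X ρ) :
    2 * n * Module.finrank k (D cs (isCartan n) X ρ) +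
      2 * n * (n - 1) * Module.finrank k (Io cs (isCartan n) T X ρ i) ≤ Module.finrank k V := by
  classical
  obtain ⟨v, hv⟩ := exists_vert (cs := cs) i
  obtain ⟨e, he, he', h1⟩ := co_one_eq (cs := cs) i
  have hi1 : (i : ℕ) + 1 < n := by omega
  rw [if_pos hi1] at he'
  subst he'
  have h2 : (fun m => 2 * mo cs (isCartan n) i 1 m) = fn (vec 2 ({i, ⟨i + 1, hi1⟩}, ∅)) := by
    rw [mo_one_eq i _ h1]
    congr 1
    funext k
    unfold sw vec
    rw [dif_pos hi1]
    simp only [Function.comp_apply, Finset.mem_Iic, Finset.notMem_empty, if_false, Finset.mem_insert,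
      Finset.mem_singleton, Fin.le_def]
    by_cases hk : k = i
    · subst hk
      rw [Equiv.swap_apply_left]
      simp
    · by_cases hk' : k = ⟨i + 1, hi1⟩
      · subst hk'
        rw [Equiv.swap_apply_right]
        simp
      · rw [Equiv.swap_apply_of_ne_of_ne hk hk']
        have h3 : ¬ (k : ℕ) ≤ i := fun h => hk (Fin.ext (by omega))
        rw [if_neg h3, if_neg (by rintro (h | h) <;> [exact hk h; exact hk' h])]
        rfl
  obtain ⟨u, hu⟩ := exists_edge i 2 (by norm_num) _ h2
  have h3 := dim_ge_orbit R hirr hi v hv u hu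
  rw [card_Ix, card_Ix, Finset.card_pair (by intro e; have := congrArg Fin.val e; simp only at this; omega), h0,
    zero_add, Nat.choose_one_right, pow_one, Nat.choose_two_right] at h3
  have h4 : n * (n - 1) / 2 * 2 ^ 2 = 2 * n * (n - 1) := by
    have : 2 * (n * (n - 1) / 2) = n * (n - 1) := Nat.mul_div_cancel' (Nat.even_mul_pred_self n).two_dvd
    calc n * (n - 1) / 2 * 2 ^ 2 = 2 * (2 * (n * (n - 1) / 2)) := by ring
      _ = 2 * (n * (n - 1)) := by rw [this]
      _ = _ := by ring
  rw [h4, mul_comm n 2] at h3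
  exact h3

/-- **The last node**: `2 ^ n δ + n 2 ^ (n - 1) dim Io (n - 1) ≤ dim V`. -/
theorem dim_ge_last {i : Fin n} (h0 : (i : ℕ) + 1 = n) (hi : i ∉ Jx cs (isCartan n) X ρ) :
    2 ^ n * Module.finrank k (D cs (isCartan n) X ρ) +
      n * 2 ^ (n - 1) * Module.finrank k (Io cs (isCartan n) T X ρ i) ≤ Module.finrank k V := by
  classical
  obtain ⟨v, hv⟩ := exists_vert (cs := cs) i
  obtain ⟨e, he, he', h1⟩ := co_one_eq (cs := cs) i
  have hi1 : ¬ (i : ℕ) + 1 < n := by omega
  rw [if_neg hi1] at he'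
  subst he'
  have h2 : (fun m => 2 * mo cs (isCartan n) i 1 m) = fn (vec 2 (Finset.univ.erase i, ∅)) := by
    rw [mo_one_eq i _ h1]
    congr 1
    funext k
    unfold sw vec
    rw [dif_neg hi1]
    simp only [Finset.mem_Iic, Finset.notMem_empty, if_false, Finset.mem_erase, Finset.mem_univ, and_true,
      Fin.le_def]
    have h3 : (k : ℕ) ≤ i := by omega
    rw [if_pos h3]
    by_cases hk : k = i
    · subst hk
      rw [Function.update_self, if_pos le_rfl, if_neg (by simp)]
      norm_num
    · rw [Function.update_of_ne hk, if_pos h3, if_pos hk]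
      norm_num
  obtain ⟨u, hu⟩ := exists_edge i 2 (by norm_num) _ h2
  have h3 := dim_ge_orbit R hirr hi v hv u hu
  have hn : 0 < n := by omega
  rw [card_Ix, card_Ix, Finset.card_erase_of_mem (Finset.mem_univ _), Finset.card_univ, Fintype.card_fin, h0,
    Nat.choose_self, one_mul, Nat.choose_symm (show 1 ≤ n from hn), Nat.choose_one_right] at h3
  exact h3

end main

/-! ### numerical consequences -/

theorem le_choose {n k : ℕ} (h1 : 1 ≤ k) (h2 : k < n) : n ≤ n.choose k := by
  induction n generalizing k with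
  | zero => omega
  | succ n ih =>
    obtain ⟨k, rfl⟩ := Nat.exists_eq_add_of_le' h1
    rw [Nat.choose_succ_succ, Nat.succ_eq_add_one]
    by_cases h3 : k + 1 = n
    · rw [h3, Nat.choose_self]
      have : n.choose k = n := by
        have h4 : k = n - 1 := by omega
        rw [h4, Nat.choose_symm (by omega : 1 ≤ n), Nat.choose_one_right]
      omega
    · have h4 := ih (k := k + 1) (by omega) (by omega)
      have h5 : 0 < n.choose k := Nat.choose_pos (by omega)
      omega

theorem four_mul_le {n k : ℕ} (hn : 4 ≤ n) (h1 : 2 ≤ k) (h2 : k ≤ n) : 4 * n ≤ n.choose k * 2 ^ k := by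
  rcases Nat.lt_or_eq_of_le h2 with h3 | h3
  · have h4 := le_choose (by omega : 1 ≤ k) h3
    have h5 : 2 ^ 2 ≤ 2 ^ k := Nat.pow_le_pow_right (by norm_num) h1
    calc 4 * n = n * 2 ^ 2 := by ring
      _ ≤ n.choose k * 2 ^ k := Nat.mul_le_mul h4 h5
  · subst h3
    rw [Nat.choose_self, one_mul]
    clear h1 h2
    induction k, hn using Nat.le_induction with
    | base => norm_num
    | succ k hk ih =>
      rw [pow_succ]
      omega

section main

variable {n : ℕ} {W Y : Type*} [Group W] [Group Y] {cs : CoxeterSystem (CoxeterMatrix.B n) W} {p : ℕ}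
  {T : Subgroup Y} {nn : Fin n → Y} {X : (Fin n → ℤ) → Subgroup Y} {k V : Type*} [Field k] [AddCommGroup V] [Module k V]
variable (R : RGD cs (isCartan n) p T nn X) [Finite Y] [Finite W] [Fact p.Prime] [CharP k p]
  {ρ : Y →* Module.End k V} [FiniteDimensional k V] [Nontrivial V]
  (hirr : ∀ L : Submodule k V, Ivt ρ (GG cs (isCartan n) T X) L → L = ⊥ ∨ L = ⊤)
include R hirr

/-- **The other nodes** for `n ≥ 4`: `4 n dim Le {i} ≤ 2 dim V`. -/
theorem four_mul_Le_le (hn : 4 ≤ n) {i : Fin n} (h1 : 1 ≤ (i : ℕ)) (hi : i ∉ Jx cs (isCartan n) X ρ) :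
    4 * n * Module.finrank k (Le cs (isCartan n) T X ρ {i}) ≤ 2 * Module.finrank k V :=
  (Nat.mul_le_mul_right _ (four_mul_le hn (by omega) i.2)).trans (choose_mul_Le_le R hirr hi)

end main

end Cfsg.Agent.H948.Ppd.TypeB
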