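import Cfsg.Agent.H948.Ppd.IdB
import Cfsg.Agent.H948.Ppd.TypeB
import Cfsg.Agent.H948.Ppd.Cover
import Cfsg.Agent.H650.Ppd.Edge

/-!
# Lower bounds for the degree, models of type `B_n` (helper948)

`C : Cov ..` a covering group of a model of type `B_n` with commutative torus, `J` the set of the nodes over the closure,
`i ∉ J`, `d_i = dim Le {i}`.

* `lift_nd`, `lift_comm_pow` : the homomorphisms `SL_2(E_i) → M.I` lift, the torus of `Y` is commutative, `t ^ N₀ = t`;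
* `exists_node` : `J` is not everything;
* `edge_pow_B` : `|E_i| = |F| ^ s` implies `d_i = m ^ s`, `m ≥ 2`;
* `bound_first` : `2 n + 2 n (n - 1) ε ≤ |ι|`, `d_0 ≤ ε + 2`; `bound_all` : `C(n, i + 1) 2 ^ (i + 1) d_i ≤ 2 |ι|`;
  `bound_last` : `2 ^ n + n 2 ^ (n - 1) ε ≤ |ι|`, `d ≤ ε + 2`.
-/

set_option autoImplicit false
set_option linter.unusedSectionVars false
set_option linter.style.haveILetI false

namespace Cfsg.Agent.H948.Ppd

open CoxeterSystem Cfsg.Agent.ChevalleyStructure.CoxeterGeom Cfsg.Agent.Tits.Roots Cfsg.Agent.Tits.Core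
  Cfsg.Agent.Nodes.Reps Cfsg.Agent.Nodes.BNOf Cfsg.Agent.Nodes.Bruhat Cfsg.Agent.Nodes.RGDLib
open Cfsg.Agent.Nodes Cfsg.Agent.Nodes.WittRoot Cfsg.Agent.Nodes.WittRGD Cfsg.Agent.Nodes.WittAll
open Cfsg.Agent.Nodes.TypeC (isCartan)
open Cfsg.Agent.TitsThree.Siegel Cfsg.Agent.TitsThree.SiegelGen Cfsg.Agent.TitsThree.WittFrame Cfsg.Agent.TitsThree.FrameCN
  Cfsg.Agent.TitsThree.WBridge Cfsg.Agent.TitsThree.KSideO
open Cfsg.Agent.H915.LD Cfsg.Agent.H911 Cfsg.Agent.H905.Md Cfsg.Agent.H925.Nat Cfsg.Agent.Nodes.RGDLift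
open Cfsg.Agent.H156.Ppd (Cov lrep exists_cov)
open Cfsg.Agent.Omega.CR Cfsg.Agent.Omega.FOne.Lift.Sd
open Cfsg Cfsg.Geo
open scoped MatrixGroups Matrix

universe u v w

variable {F : Type u} [Field F] [Finite F] {ι : Type} [Fintype ι] [DecidableEq ι] {P : Subgroup (GL ι F)}
  {K : Type} [Field K] [Finite K] {ν : Type} [Fintype ν] [DecidableEq ν]
  {H : HForm K (ν → K)} {n : ℕ} {Fr : Frame H (Fin n)} {T₀ : Type v} [Group T₀] {M : Model Fr T₀} {p : ℕ}
  [hp : Fact p.Prime] [hFp : CharP F p] [hKp : CharP K p] (hC : Core P) {hA : AmbT Fr p M.I} {p0 : Fr.Adm}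
  {Y : Type w} [Group Y] [Finite Y] {f : Y →* M.I} {φ : Y →* GL ι F} {n₁ : Fin n → Y}
  (C : Cov (CoxeterMatrix.B n).toCoxeterSystem (isCartan n) p (TB M) (NB hA p0) (XB M) P f φ n₁)

section lift

include C

theorem lift_nd (hp0 : p0.c ≠ 0) {i : Fin n} {E : Type} [Field E] [Finite E] [CharP E p] {σ' : SL(2, E) →* M.I}
    (N : Nd (TB M) (XB M) i σ') :
    ∃ σ : SL(2, E) →* Y, (∀ x, f (σ x) = σ' x) ∧ Nd ((TB M).comap f) (fun x => lft p f (XB M x)) i σ := by
  have hWf : Finite (CoxeterMatrix.B n).Group := TypeC.finite_W (CoxeterMatrix.B n).toCoxeterSystem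
  have := finite_GL (K := K) (ν := ν)
  exact N.exists_lift C.ker C.cop C.surj (rgdB hA hp0 (CoxeterMatrix.B n).toCoxeterSystem)

theorem lift_comm_pow (hp0 : p0.c ≠ 0) (hT' : ∀ s ∈ TB M, ∀ t ∈ TB M, s * t = t * s) {N₀ : ℕ}
    (hN : ∀ i, ∃ (E : Type) (_ : Field E) (_ : Finite E) (_ : CharP E p) (σ' : SL(2, E) →* M.I),
      Nd (TB M) (XB M) i σ' ∧ ∀ x : E, x ^ N₀ = x) :
    (∀ s ∈ (TB M).comap f, ∀ t ∈ (TB M).comap f, s * t = t * s) ∧ ∀ t ∈ (TB M).comap f, t ^ N₀ = t := by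
  have hWf : Finite (CoxeterMatrix.B n).Group := TypeC.finite_W (CoxeterMatrix.B n).toCoxeterSystem
  have := finite_GL (K := K) (ν := ν)
  have R := rgdB hA hp0 (CoxeterMatrix.B n).toCoxeterSystem (M := M) (p := p)
  have hN₁ : ∀ i, ∃ (E : Type) (_ : Field E) (_ : Finite E) (_ : CharP E p) (σ : SL(2, E) →* Y),
      Nd ((TB M).comap f) (fun x => lft p f (XB M x)) i σ ∧ ∀ x : E, x ^ N₀ = x := by
    intro i
    obtain ⟨E, i1, i2, i3, σ', N, hE⟩ := hN i
    obtain ⟨σ, -, N₁⟩ := lift_nd C hp0 N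
    exact ⟨E, i1, i2, i3, σ, N₁, hE⟩
  refine ⟨lift_comm.{w, 0, 0} C.ker C.cop hT' C.rgd C.gen R fun i => ?_,
    lift_pow.{w, 0, 0} C.ker C.cop hT' C.rgd C.gen R hN₁⟩
  obtain ⟨E, i1, i2, i3, σ, N, -⟩ := hN₁ i
  exact ⟨E, i1, i2, i3, σ, N⟩

end lift

variable (hT : ∀ s ∈ (TB M).comap f, ∀ t ∈ (TB M).comap f, s * t = t * s)

/-- the set of the nodes, over the closure -/
abbrev JB (M : Model Fr T₀) (p : ℕ) (f : Y →* M.I) (φ : Y →* GL ι F) : Set (Fin n) :=
  Jx (CoxeterMatrix.B n).toCoxeterSystem (isCartan n) (fun x => lft p f (XB M x)) (lin (acRep φ))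

/-- the dimension of an edge, over the closure -/
noncomputable abbrev dB (M : Model Fr T₀) (p : ℕ) (f : Y →* M.I) (φ : Y →* GL ι F) (i : Fin n) : ℕ :=
  Module.finrank (AlgebraicClosure F) (Le (CoxeterMatrix.B n).toCoxeterSystem (isCartan n) ((TB M).comap f)
    (fun x => lft p f (XB M x)) (lin (acRep φ)) {i})

include hC C hT

theorem exists_node : ∃ i, i ∉ JB M p f φ := by
  have hWf : Finite (CoxeterMatrix.B n).Group := TypeC.finite_W (CoxeterMatrix.B n).toCoxeterSystem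
  have hne := hC.nonempty
  by_contra hcon
  push Not at hcon
  have hirr := C.hirr hC
  have hnV := C.nontriv hC
  have hall : ∀ j, j ∈ Jx (CoxeterMatrix.B n).toCoxeterSystem (isCartan n) (fun x => lft p f (XB M x))
      (lrep φ) := fun j => (jx_iff C.rgd C.hGG hT C.range hC.absIrred).2 (hcon j)
  obtain ⟨y, v, hv⟩ := C.hnt hC
  have h1 := D_eq_top C.rgd hirr hall
  have h2 : ∀ x, IsRoot (CoxeterMatrix.B n).toCoxeterSystem (isCartan n) x → lft p f (XB M x) ≤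
      (lrep φ).ker := by
    intro x hx g hg
    rw [MonoidHom.mem_ker]
    refine LinearMap.ext fun v => ?_
    have hv : v ∈ D (CoxeterMatrix.B n).toCoxeterSystem (isCartan n) (fun x => lft p f (XB M x)) (lrep φ) := by
      rw [h1]; trivial
    rcases hx.pos_or_neg with h0 | h0
    · exact hv g (RGD.le_Sup (S := RGD.Pos _ _) ⟨hx, h0⟩ hg)
    · exact X_fix_J C.rgd hirr ⟨hx, fun k hk => absurd (hall k) hk⟩ hg hv
  apply hv
  have h3 : G1 (CoxeterMatrix.B n).toCoxeterSystem (isCartan n) (fun x => lft p f (XB M x)) ≤ (lrep φ).ker :=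
    RGD.Sup_le fun x hx => h2 x hx
  have h4 : y ∈ (lrep φ).ker := h3 (by rw [C.gen]; trivial)
  rw [MonoidHom.mem_ker] at h4
  rw [h4]
  rfl

/-- **The dimension of an edge.** -/
theorem edge_pow_B {i : Fin n} (hi : i ∉ JB M p f φ) {E : Type} [Field E] [Finite E] [CharP E p] {σ : SL(2, E) →* Y}
    (N : Nd ((TB M).comap f) (fun x => lft p f (XB M x)) i σ) {s : ℕ} (hE : Nat.card E = Nat.card F ^ s) :
    ∃ m, 2 ≤ m ∧ dB M p f φ i = m ^ s := by
  have hWf : Finite (CoxeterMatrix.B n).Group := TypeC.finite_W (CoxeterMatrix.B n).toCoxeterSystem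
  have hne := hC.nonempty
  have := Fintype.ofFinite E
  have N' : H650.Ppd.Nd ((TB M).comap f) (fun x => lft p f (XB M x)) i σ := ⟨N.up, N.lo, N.tor⟩
  exact H650.Ppd.edge_pow_of_card C.rgd C.hGG hT C.range hC.absIrred N' hi hE

theorem irr_B : (∀ L : Submodule (AlgebraicClosure F) (ι → AlgebraicClosure F),
    Ivt (lin (acRep φ)) (GG (CoxeterMatrix.B n).toCoxeterSystem (isCartan n) ((TB M).comap f)
      (fun x => lft p f (XB M x))) L → L = ⊥ ∨ L = ⊤) ∧
    Module.finrank (AlgebraicClosure F) (D (CoxeterMatrix.B n).toCoxeterSystem (isCartan n)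
      (fun x => lft p f (XB M x)) (lin (acRep φ))) = 1 := by
  have hWf : Finite (CoxeterMatrix.B n).Group := TypeC.finite_W (CoxeterMatrix.B n).toCoxeterSystem
  have hne := hC.nonempty
  have hchar : CharP (AlgebraicClosure F) p := charP_of_injective_algebraMap (algebraMap F _).injective p
  have hirr := ac_irr C.rgd C.hGG hT C.range hC.absIrred
  exact ⟨hirr, H905.Md.finrank_D C.rgd hirr hT⟩

theorem bound_first (hn : 2 ≤ n) {i : Fin n} (h0 : (i : ℕ) = 0) (hi : i ∉ JB M p f φ) :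
    ∃ ε, dB M p f φ i ≤ ε + 2 ∧ 2 * n + 2 * n * (n - 1) * ε ≤ Fintype.card ι := by
  have hWf : Finite (CoxeterMatrix.B n).Group := TypeC.finite_W (CoxeterMatrix.B n).toCoxeterSystem
  have hne := hC.nonempty
  have hchar : CharP (AlgebraicClosure F) p := charP_of_injective_algebraMap (algebraMap F _).injective p
  obtain ⟨hirr, hD⟩ := irr_B hC C hT
  have h1 := TypeB.dim_ge_first C.rgd hirr hn h0 hi
  have h2 := finrank_Io C.rgd hirr i
  rw [hD, Module.finrank_fintype_fun_eq_card, mul_one] at h1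
  rw [hD] at h2
  exact ⟨_, h2, h1⟩

theorem bound_last {i : Fin n} (h0 : (i : ℕ) + 1 = n) (hi : i ∉ JB M p f φ) :
    ∃ ε, dB M p f φ i ≤ ε + 2 ∧ 2 ^ n + n * 2 ^ (n - 1) * ε ≤ Fintype.card ι := by
  have hWf : Finite (CoxeterMatrix.B n).Group := TypeC.finite_W (CoxeterMatrix.B n).toCoxeterSystem
  have hne := hC.nonempty
  have hchar : CharP (AlgebraicClosure F) p := charP_of_injective_algebraMap (algebraMap F _).injective p
  obtain ⟨hirr, hD⟩ := irr_B hC C hT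
  have h1 := TypeB.dim_ge_last C.rgd hirr h0 hi
  have h2 := finrank_Io C.rgd hirr i
  rw [hD, Module.finrank_fintype_fun_eq_card, mul_one] at h1
  rw [hD] at h2
  exact ⟨_, h2, h1⟩

theorem bound_all {i : Fin n} (hi : i ∉ JB M p f φ) :
    (n.choose (i + 1) * 2 ^ ((i : ℕ) + 1)) * dB M p f φ i ≤ 2 * Fintype.card ι := by
  have hWf : Finite (CoxeterMatrix.B n).Group := TypeC.finite_W (CoxeterMatrix.B n).toCoxeterSystem
  have hne := hC.nonempty
  have hchar : CharP (AlgebraicClosure F) p := charP_of_injective_algebraMap (algebraMap F _).injective p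
  obtain ⟨hirr, hD⟩ := irr_B hC C hT
  have h1 := TypeB.choose_mul_Le_le C.rgd hirr hi
  rwa [Module.finrank_fintype_fun_eq_card] at h1

theorem bound_four (hn : 4 ≤ n) {i : Fin n} (h1 : 1 ≤ (i : ℕ)) (hi : i ∉ JB M p f φ) :
    4 * n * dB M p f φ i ≤ 2 * Fintype.card ι :=
  (Nat.mul_le_mul_right _ (TypeB.four_mul_le hn (by omega) i.2)).trans (bound_all hC C hT hi)

end Cfsg.Agent.H948.Ppd
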