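import Cfsg.Agent.H948.Ppd.TypeB
import Cfsg.Agent.H948.Ppd.Cover
import Cfsg.Agent.H117.LeviC
import Cfsg.Agent.H650.Ppd.Edge
import Cfsg.Agent.KFacts.RgdDiag

/-!
# Type `B_3`, the middle node (helper948)

* `Nd.rp_ww` : `σ(ww)` represents the simple reflection;
* `dim_ge_mid` : `12 δ + 24 dim Io 1 ≤ dim V`, `1 ∉ J`;
* **`levi_mid`** : `1 ∉ J`, the weights of `s ↦ g⁻¹ σ(hh s) g` (`σ` at the last node) have `|SS p c| ≥ 4` : `20 ≤ dim V`;
* **`levi_F`** : `1 ∉ J`, `|E| = |F| ^ 2` : `20 ≤ |ι|`.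
-/

set_option autoImplicit false
set_option linter.unusedSectionVars false
set_option linter.style.haveILetI false

namespace Cfsg.Agent.H948.Ppd

open CoxeterSystem Cfsg.Agent.ChevalleyStructure.CoxeterGeom Cfsg.Agent.Tits.Roots Cfsg.Agent.Tits.Core
  Cfsg.Agent.Tits.Exchange Cfsg.Agent.Nodes.Reps Cfsg.Agent.Nodes.BNOf Cfsg.Agent.Nodes.StabComb
  Cfsg.Agent.Nodes.Bruhat Cfsg.Agent.Nodes.OppDec Cfsg.Agent.Nodes.LeviDec Cfsg.Agent.KFacts.RgdOpp
  Cfsg.Agent.Omega.CR Cfsg.Agent.Omega.FOne.Lift.Sd Cfsg.Agent.H905.Md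
open Cfsg.Agent.H905.DC (co fire cf co_one co_mul_simple co_mul_left co_wordProd)
open Cfsg.Agent.H650.Ppd (mo mf mo_wordProd co_eq_of_mem dim_ge_list)
open Cfsg.Agent.H911 (lin)
open Cfsg.Agent.H911.SLTwo Cfsg.Agent.Nodes.TypeC
open Cfsg.Agent.H875.Fn (SS)
open Cfsg.Agent.H117.Levi
open Cfsg Cfsg.Geo
open scoped MatrixGroups Matrix

/-! ### the simple reflection -/

section ww

variable {I W Y : Type*} [Fintype I] [DecidableEq I] [Group W] [Group Y] {M : CoxeterMatrix I}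
  {cs : CoxeterSystem M W} {A : I → I → ℤ} {h : IsCartan M A} {p : ℕ} {T : Subgroup Y} {n : I → Y}
  {X : (I → ℤ) → Subgroup Y}

theorem cj_cancel {G : Type*} [Group G] {g : G} {X Y : Subgroup G} (h : cj g X = Y) : X = cj g⁻¹ Y := by
  rw [← h, cj_inv_cj]

theorem Nd.rp_ww [Finite W] (R : RGD cs h p T n X) {i : I} {E : Type*} [Field E] {σ : SL(2, E) →* Y} (N : Nd T X i σ) :
    Rp cs R.nsys (cs.simple i) (σ ww) := by
  have h0 : σ (Lo (-1)) ∈ X (-sr i) := (N.lo _).2 ⟨_, rfl⟩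
  have h1 : σ (Lo (-1)) ≠ 1 := by
    intro h1
    have h2 : σ ww = σ (U 1) * σ (U 1) := by
      have h3 := hh_ww (1 : Eˣ)
      rw [hh_one, one_mul, inv_one, Units.val_one] at h3
      rw [h3, map_mul, map_mul, h1, mul_one]
    have h3 := N.ww_conj
    rw [h2, cj_mul, N.U_conj, N.U_conj] at h3
    exact X_ne R i h3
  obtain ⟨x, hx, t, ht, y, hy, e⟩ := R.rk1 i _ h0 h1
  have hww : σ ww = σ (U 1) * x * t * n i * y * σ (U 1) := by
    have h3 := hh_ww (1 : Eˣ)
    rw [hh_one, one_mul, inv_one, Units.val_one] at h3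
    rw [h3, map_mul, map_mul, e]
    group
  obtain ⟨α, hα⟩ := (N.up _).1 (mul_mem ((N.up _).2 ⟨1, rfl⟩) hx)
  obtain ⟨β, hβ⟩ := (N.up _).1 (mul_mem hy ((N.up _).2 ⟨1, rfl⟩))
  have hr : Rp cs R.nsys (cs.simple i) (t * n i) := by
    have h3 := (rp_of_mem (cs := cs) (hN := R.nsys) ht).mul (rp_simple cs R.nsys i)
    rwa [one_mul] at h3
  have hww' : σ ww = σ (U α) * (t * n i) * σ (U β) := by
    rw [hα, hβ, hww]
    group
  -- `t n_i` interchanges `X_i` and `X_{-i}`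
  have c1 : cj (t * n i) (X (sr i)) = X (-sr i) := by
    have h3 := R.conj_rp hr (isRoot_sr cs h i)
    rwa [rep_simple_sr] at h3
  have c2 : cj (t * n i) (X (-sr i)) = X (sr i) := by
    have h3 := R.conj_rp hr (isRoot_sr cs h i).neg
    rwa [map_neg, rep_simple_sr, neg_neg] at h3
  have hα0 : α = 0 := by
    have h3 := N.ww_conj
    rw [hww', cj_mul, N.U_conj, cj_mul, c1] at h3
    have h4 := N.upper_zero R h3
    rwa [U01] at h4
  have hβ0 : β = 0 := by
    have h3 := N.ww_conj'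
    rw [hww', hα0, U_zero, map_one, one_mul, cj_mul] at h3
    have h4 := cj_cancel h3
    have h5 := cj_cancel c2
    rw [← h5] at h4
    have h6 := N.upper_zero R h4
    rwa [U01] at h6
  rw [hww', hα0, hβ0, U_zero, map_one, one_mul, mul_one]
  exact hr

end ww

/-! ### the middle node -/

section mid

variable {W Y : Type*} [Group W] [Group Y] {cs : CoxeterSystem (CoxeterMatrix.B 3) W} {p : ℕ}
  {T : Subgroup Y} {nn : Fin 3 → Y} {X : (Fin 3 → ℤ) → Subgroup Y} {k V : Type*} [Field k] [AddCommGroup V] [Module k V]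
  (R : RGD cs (isCartan 3) p T nn X) [Finite Y] [Finite W] [Fact p.Prime] [CharP k p]
  {ρ : Y →* Module.End k V} [FiniteDimensional k V] [Nontrivial V]
  (hirr : ∀ L : Submodule k V, Ivt ρ (GG cs (isCartan 3) T X) L → L = ⊥ ∨ L = ⊤)

/-- the vertices -/
def LV : List (List (Fin 3)) := [[], [1], [1, 0], [1, 2], [1, 0, 2], [1, 2, 1], [1, 0, 2, 1], [1, 2, 1, 0], [1, 0, 2, 1, 0], [1, 0, 2, 1, 2],
  [1, 0, 2, 1, 0, 2], [1, 0, 2, 1, 0, 2, 1]]

/-- the edges -/
def LE : List (List (Fin 3)) := [[], [0], [2], [0, 1], [0, 2], [2, 1], [0, 1, 2], [0, 2, 1], [2, 1, 0], [2, 1, 2], [0, 1, 2, 1], [0, 2, 1, 0],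
  [0, 2, 1, 2], [2, 1, 0, 2], [0, 1, 2, 1, 0], [0, 1, 2, 1, 2], [0, 2, 1, 0, 2], [2, 1, 0, 2, 1], [0, 1, 2, 1, 0, 2],
  [0, 2, 1, 0, 2, 1], [2, 1, 0, 2, 1, 2], [0, 1, 2, 1, 0, 2, 1], [0, 2, 1, 0, 2, 1, 2], [0, 1, 2, 1, 0, 2, 1, 2]]

theorem nodup_LV : (LV.map (cf (A 3) 1)).Nodup := by decide

set_option maxRecDepth 4000 in
theorem nodup_LE : (LE.map (mf (A 3) 1)).Nodup := by decide

include R hirr in
/-- **The middle node of `B_3`.** -/
theorem dim_ge_mid (h1 : (1 : Fin 3) ∉ Jx cs (isCartan 3) X ρ) :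
    12 * Module.finrank k (D cs (isCartan 3) X ρ) + 24 * Module.finrank k (Io cs (isCartan 3) T X ρ 1) ≤
      Module.finrank k V := dim_ge_list R hirr h1 LV LE nodup_LV nodup_LE

/-- the double cosets of the last node -/
def LW : Fin 8 → List (Fin 3) :=
  ![[], [1, 2, 1], [1, 2, 1, 0], [1, 0, 2, 1, 0, 2, 1], [1], [1, 0], [1, 0, 2, 1], [1, 0, 2, 1, 0]]

theorem LW_nonneg : ∀ a i, 0 ≤ cf (A 3) i (LW a) 2 := by decide

theorem LW_ne : ∀ a a', a ≠ a' → cf (A 3) 1 (LW a) ≠ cf (A 3) 1 (LW a') ∧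
    fire (A 3) (cf (A 3) 1 (LW a)) 2 ≠ cf (A 3) 1 (LW a') := by decide

theorem LW_pos : ∀ a, 4 ≤ a → fire (A 3) (cf (A 3) 1 (LW a)) 2 ≠ cf (A 3) 1 (LW a) := by decide

include R hirr in
/-- **The Levi subgroup of the last node.** -/
theorem levi_mid (h1 : (1 : Fin 3) ∉ Jx cs (isCartan 3) X ρ) {E : Type*} [Field E] [Fintype E] (j : E →+* k)
    {σ : SL(2, E) →* Y} (N : Nd T X (2 : Fin 3) σ)
    (hS : ∀ (g : Y) (w : W), Rp cs R.nsys w g → ∃ c, 1 ≤ c ∧ c ≤ Fintype.card E - 1 ∧ 4 ≤ (SS p c).card ∧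
      ∀ s : Eˣ, ∀ v ∈ D cs (isCartan 3) X ρ, ρ (g⁻¹ * σ (hh s) * g) v = j s ^ c • v) : 20 ≤ Module.finrank k V := by
  have hg : ∀ a : Fin 8, ∃ g, Rp cs R.nsys (cs.wordProd (LW a))⁻¹ g := fun a => exists_rp (cs := cs) (hN := R.nsys) _
  choose g hg using hg
  have hco : ∀ {u w : W}, w⁻¹ * u ∈ WJ cs (Jx cs (isCartan 3) X ρ) → co cs (isCartan 3) 1 w⁻¹ = co cs (isCartan 3) 1 u⁻¹ :=
    fun hw => co_eq_of_mem h1 hw
  have hsum := dim_ge_levi R hirr ({2} : Set (Fin 3)) (fun a : Fin 8 => (cs.wordProd (LW a))⁻¹) g hg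
    (fun a i hi => by
      obtain rfl : i = 2 := hi
      rw [inv_inv]
      intro i
      have h2 := LW_nonneg a i
      rw [← co_wordProd cs (isCartan 3)] at h2
      exact h2)
    (fun a a' haa x hx hmem => by
      obtain ⟨n1, n2⟩ := LW_ne a a' haa
      have h2 := co_mul_left cs (isCartan 3) h1 hmem (cs.wordProd (LW a'))
      have e : (cs.wordProd (LW a))⁻¹⁻¹ * x * (cs.wordProd (LW a'))⁻¹ * cs.wordProd (LW a') =
        cs.wordProd (LW a) * x := by group
      rw [e] at h2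
      rcases Cfsg.Agent.KFacts.RgdDiag.mem_WJ_singleton hx with rfl | rfl
      · rw [mul_one, co_wordProd, co_wordProd] at h2
        exact n1 h2
      · rw [co_mul_simple, co_wordProd, co_wordProd] at h2
        exact n2 h2)
  have hlow : ∀ a : Fin 8, 4 ≤ a → 4 ≤ lrk cs (isCartan 3) T X ρ {2} (g a) := by
    intro a ha
    obtain ⟨c, hc1, hc2, hc4, hc⟩ := hS (g a) _ (hg a)
    refine hc4.trans (card_SS_le_lrk R hirr (hg a) ?_ ?_ j σ (fun t => (N.up _).2 ⟨t, rfl⟩)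
      (fun t => (N.lo _).2 ⟨t, rfl⟩) N.tor (N.rp_ww R) hc1 hc2 hc)
    · rw [inv_inv]
      intro i
      have h2 := LW_nonneg a i
      rw [← co_wordProd cs (isCartan 3)] at h2
      exact h2
    · intro hmem
      have h2 := co_mul_left cs (isCartan 3) h1 hmem (cs.wordProd (LW a))
      have e : (cs.wordProd (LW a))⁻¹⁻¹ * cs.simple 2 * (cs.wordProd (LW a))⁻¹ * cs.wordProd (LW a) =
        cs.wordProd (LW a) * cs.simple 2 := by group
      rw [e, co_mul_simple, co_wordProd] at h2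
      exact LW_pos a ha h2
  have hone : ∀ a : Fin 8, 1 ≤ lrk cs (isCartan 3) T X ρ {2} (g a) := fun a => one_le_lrk R hirr _ _
  rw [Fin.sum_univ_eight] at hsum
  have a0 := hone 0
  have a1 := hone 1
  have a2 := hone 2
  have a3 := hone 3
  have a4 := hlow 4 (by decide)
  have a5 := hlow 5 (by decide)
  have a6 := hlow 6 (by decide)
  have a7 := hlow 7 (by decide)
  omega

end mid

/-! ### linear groups -/

section lingrp

/-- a homomorphism into a field is a power -/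
theorem exists_exp {E k : Type*} [Field E] [Fintype E] [Field k] (j : E →+* k) (θ : Eˣ →* kˣ) :
    ∃ c, 1 ≤ c ∧ c ≤ Fintype.card E - 1 ∧ ∀ s : Eˣ, (θ s : k) = j s ^ c := by
  classical
  have hcE : 1 < Fintype.card E := Fintype.one_lt_card
  obtain ⟨ω, hω⟩ := IsCyclic.exists_generator (α := Eˣ)
  have hord : orderOf ω = Fintype.card E - 1 := by
    rw [orderOf_eq_card_of_forall_mem_zpowers hω, Nat.card_eq_fintype_card, Fintype.card_units]
  have hpr : IsPrimitiveRoot (j (ω : E)) (Fintype.card E - 1) := by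
    have h1 : IsPrimitiveRoot ω (Fintype.card E - 1) := hord ▸ IsPrimitiveRoot.orderOf ω
    have h2 : IsPrimitiveRoot (ω : E) (Fintype.card E - 1) :=
      h1.map_of_injective (f := Units.coeHom E) Units.val_injective
    exact h2.map_of_injective j.injective
  have hχ1 : ((θ ω : kˣ) : k) ^ (Fintype.card E - 1) = 1 := by
    rw [← Units.val_pow_eq_pow_val, ← map_pow, ← hord, pow_orderOf_eq_one, map_one, Units.val_one]
  haveI : NeZero (Fintype.card E - 1) := ⟨by omega⟩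
  obtain ⟨i, hi, hi'⟩ := hpr.eq_pow_of_pow_eq_one hχ1
  obtain ⟨c, hc1, hc2, hc⟩ : ∃ c, 1 ≤ c ∧ c ≤ Fintype.card E - 1 ∧ j (ω : E) ^ c = θ ω := by
    by_cases h0 : i = 0
    · refine ⟨Fintype.card E - 1, by omega, le_rfl, ?_⟩
      rw [hpr.pow_eq_one, ← hi', h0, pow_zero]
    · exact ⟨i, by omega, by omega, hi'⟩
  refine ⟨c, hc1, hc2, fun s => ?_⟩
  obtain ⟨l, rfl⟩ : ∃ l : ℕ, ω ^ l = s := by
    have h2 := hω s
    rwa [← mem_powers_iff_mem_zpowers, Submonoid.mem_powers_iff] at h2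
  rw [map_pow, Units.val_pow_eq_pow_val, Units.val_pow_eq_pow_val, map_pow, ← hc, ← pow_mul, ← pow_mul, mul_comm]

variable {W Y : Type*} [Group W] [Group Y] {cs : CoxeterSystem (CoxeterMatrix.B 3) W} {p : ℕ}
  {T : Subgroup Y} {nn : Fin 3 → Y} {X : (Fin 3 → ℤ) → Subgroup Y} {F : Type*} [Field F] {ι : Type} [Fintype ι]
  [DecidableEq ι] {P : Subgroup (GL ι F)} {E : Type*} [Field E] [Fintype E]
variable (R : RGD cs (isCartan 3) p T nn X) [Finite Y] [Finite W] [hp : Fact p.Prime] [CharP F p] [CharP E p]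
  [Nonempty ι] (hG : GG cs (isCartan 3) T X = ⊤) (hT : ∀ s ∈ T, ∀ t ∈ T, s * t = t * s) {φ : Y →* GL ι F}
  (hφ : φ.range = P) (hP : ActsAbsolutelyIrreducibly (matrixSet P)) {σ : SL(2, E) →* Y} (N : Nd T X (2 : Fin 3) σ)
include R hG hT hφ hP N

/-- **The Levi subgroup of the last node**: `|E| = |F| ^ 2`. -/
theorem levi_F (h1 : (1 : Fin 3) ∉ Jx cs (isCartan 3) X (lin (acRep φ))) {a : ℕ} (hF : Nat.card F = p ^ a)
    (hE : Nat.card E = Nat.card F ^ 2) : 20 ≤ Fintype.card ι := by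
  have hchar : CharP (AlgebraicClosure F) p := charP_of_injective_algebraMap (algebraMap F _).injective p
  have hirr := ac_irr R hG hT hφ hP
  obtain ⟨c, hc, hc0, χ, hχ⟩ := exists_chi R hirr hT
  obtain ⟨j⟩ := H875.Psl2.exists_emb F E p
  have hD := finrank_D R hirr hT
  have hne : ∀ t ∈ T, χ t ≠ 0 := by
    intro t ht h0
    have h2 := hχ t ht
    rw [h0, zero_smul] at h2
    have h3 := rho_inv_rho (lin (acRep φ)) t c
    rw [h2, map_zero] at h3
    exact hc0 h3.symm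
  have hmul : ∀ s ∈ T, ∀ t ∈ T, χ (s * t) = χ s * χ t := by
    intro s hs t ht
    have h2 := hχ _ (mul_mem hs ht)
    rw [rho_mul, hχ t ht, map_smul, hχ s hs, smul_smul] at h2
    exact (smul_left_injective _ hc0 h2).symm.trans (mul_comm _ _)
  have hdim := levi_mid R hirr h1 j N ?_
  · rwa [Module.finrank_fintype_fun_eq_card] at hdim
  intro g w hg
  have hgT : ∀ s : Eˣ, g⁻¹ * σ (hh s) * g ∈ T := by
    intro s
    have h2 := hg.inv.mem_normalizer
    have h3 := (Subgroup.mem_normalizer_iff.1 h2 (σ (hh s))).1 (N.tor s)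
    rwa [inv_inv] at h3
  let θ : Eˣ →* (AlgebraicClosure F)ˣ :=
    { toFun := fun s => Units.mk0 (χ (g⁻¹ * σ (hh s) * g)) (hne _ (hgT s))
      map_one' := by
        apply Units.ext
        rw [Units.val_mk0, Units.val_one, hh_one, map_one, mul_one, inv_mul_cancel]
        have h2 := hχ 1 (one_mem _)
        rw [rho_one] at h2
        have h3 : (1 : AlgebraicClosure F) • c = χ 1 • c := by rw [one_smul]; exact h2
        exact (smul_left_injective _ hc0 h3).symm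
      map_mul' := by
        intro s t
        apply Units.ext
        rw [Units.val_mk0, Units.val_mul, Units.val_mk0, Units.val_mk0, ← hmul _ (hgT s) _ (hgT t), ← hh_mul, map_mul]
        congr 1
        group }
  obtain ⟨e, he1, he2, he⟩ := exists_exp j θ
  have hval : ∀ s : Eˣ, χ (g⁻¹ * σ (hh s) * g) = j s ^ e := he
  refine ⟨e, he1, he2, ?_, fun s v hv => ?_⟩
  · -- the digits
    have hfin : Finite F := by
      apply Nat.finite_of_card_ne_zero
      rw [hF]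
      exact pow_ne_zero _ hp.out.ne_zero
    have := Fintype.ofFinite F
    have hw : ∀ t : Eˣ, (j (t : E) ^ p ^ a) ^ e = j (t : E) ^ e := by
      intro t
      obtain ⟨b, hb⟩ := chi_mem R hG hφ hP hc hc0 hχ (hgT t)
      rw [hval] at hb
      rw [← pow_mul, mul_comm, pow_mul, ← hb, ← map_pow]
      congr 1
      rw [← hF, Nat.card_eq_fintype_card]
      exact FiniteField.pow_card b
    have hd1 := H875.Fn.dvd_of_pow_eq hw (Nat.one_le_pow _ _ hp.out.pos)
    have hEf : Fintype.card E = p ^ (a * 2) := by rw [← Nat.card_eq_fintype_card, hE, hF, pow_mul]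
    have ha0 : a ≠ 0 := by
      rintro rfl
      have := Finite.one_lt_card (α := F)
      rw [hF, pow_zero] at this
      omega
    rw [hEf] at hd1
    obtain ⟨r₀, h0, -, -, h3⟩ := H650.Ppd.exists_digits p (d := a) (s := 2) ha0 rfl (show e ≠ 0 by omega)
      (by rw [← hEf]; exact he2) hd1
    rw [h3]
    have := H875.Fn.two_le_card_SS (p := p) h0
    nlinarith
  · obtain ⟨b, rfl⟩ := H650.Ppd.exists_smul_of_mem hD hc hc0 hv
    rw [map_smul, hχ _ (hgT s), hval, smul_comm]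

end lingrp

end Cfsg.Agent.H948.Ppd
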