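import Cfsg.Agent.H948.Ppd.PmBase
import Cfsg.Agent.H353.Ker.Forms
import Cfsg.Agent.H353.Ker.Bridge
import Cfsg.Agent.H69.Ppd.SUNat

/-!
# Orthogonal groups of minus type, `|K| = |F| ^ 2` (helper948)

* `eq_pow_of_card_SS` : `|SS p r| = 2` implies `r = p ^ t`;
* `node_first` : `SL_2(K)` at the first node acts on the first basis vector;
* **`rank_minus`** : `J^c = {0}`, `|K| = |F| ^ 2`, `dim Le {0} = 4` imply `(2 m + 2) ^ 2 ≤ |ι|`.
-/

set_option autoImplicit false
set_option linter.unusedSectionVars false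
set_option linter.style.haveILetI false

namespace Cfsg.Agent.H948.Ppd

open Cfsg.Agent.H875.Fn (SS)

/-- `|SS p r| = 2` implies `r = p ^ t` -/
theorem eq_pow_of_card_SS (p : ℕ) [hp : Fact p.Prime] (r : ℕ) (h : (SS p r).card = 2) : ∃ t, r = p ^ t := by
  induction r using Nat.strong_induction_on with
  | _ r ih =>
    have hp1 := hp.out.one_lt
    have e : r = r % p + p * (r / p) := (Nat.mod_add_div r p).symm
    have h1 := H875.Fn.card_SS_add (p := p) (t := 1) (r₁ := r % p) (r₂ := p * (r / p))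
      (by rw [pow_one]; exact Nat.mod_lt _ hp.out.pos) (by rw [pow_one]; exact Dvd.intro _ rfl)
    rw [← e, H875.Fn.card_SS_p_mul, H875.Fn.card_SS_lt (Nat.mod_lt _ hp.out.pos), h] at h1
    by_cases h0 : r / p = 0
    · rw [h0, mul_zero, add_zero] at e
      have h2 : (SS p 0).card = 1 := by
        rw [H875.Fn.card_SS_lt hp.out.pos]
      rw [h0, h2, mul_one] at h1
      refine ⟨0, ?_⟩
      rw [pow_zero]
      omega
    · have h2 := H875.Fn.two_le_card_SS (p := p) h0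
      have h3 : r % p = 0 := by
        by_contra h3
        have h4 : 1 ≤ r % p := Nat.one_le_iff_ne_zero.2 h3
        nlinarith
      rw [h3, zero_add, one_mul] at h1
      have hlt : r / p < r := Nat.div_lt_self (Nat.pos_of_ne_zero fun h5 => h0 (by rw [h5, Nat.zero_div])) hp1
      obtain ⟨t, ht⟩ := ih (r / p) hlt h1.symm
      refine ⟨t + 1, ?_⟩
      rw [h3, zero_add, ht] at e
      rw [e, pow_succ, mul_comm]

namespace Minus

open QuadraticMap
open CoxeterSystem Cfsg.Agent.ChevalleyStructure.CoxeterGeom Cfsg.Agent.Tits.Roots Cfsg.Agent.Tits.Core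
  Cfsg.Agent.Nodes.Reps Cfsg.Agent.Nodes.BNOf Cfsg.Agent.Nodes.Bruhat Cfsg.Agent.Nodes.RGDLib
open Cfsg.Agent.Nodes Cfsg.Agent.Nodes.WittRoot Cfsg.Agent.Nodes.WittRGD Cfsg.Agent.Nodes.WittAll Cfsg.Agent.Nodes.WittInst
open Cfsg.Agent.Nodes.TypeC (isCartan ng nx)
open Cfsg.Agent.TitsThree.Siegel Cfsg.Agent.TitsThree.SiegelGen Cfsg.Agent.TitsThree.WittFrame Cfsg.Agent.TitsThree.FrameCN
  Cfsg.Agent.TitsThree.WBridge Cfsg.Agent.TitsThree.KSideO Cfsg.Agent.TitsThree Cfsg.Agent.TitsThree.StdData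
  Cfsg.Agent.TitsThree.WittWeyl
open Cfsg.Agent.LieClassical Cfsg.Agent.LieClassical.OrthCore Cfsg.Agent.LieClassical.OrthTrans
open Cfsg.Agent.LieClassical.OrthSimple Cfsg.Agent.LieClassical.OrthFinite Cfsg.Agent.LieClassical.OrthForms
open Cfsg.Agent.H915.LD Cfsg.Agent.H911 Cfsg.Agent.H905.Md Cfsg.Agent.H925.Nat Cfsg.Agent.Nodes.RGDLift
open Cfsg.Agent.Nodes.OppDec Cfsg.Agent.Omega.FOne.Lift.Sd Cfsg.Agent.Omega.CR
open Cfsg.Agent.H156.Ppd (Cov lrep exists_cov)
open Cfsg.Agent.H911.SLTwo Cfsg.Agent.H62.FrameSL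
open Cfsg Cfsg.Geo
open scoped MatrixGroups Matrix

universe u w

section frame

variable {F : Type*} [Field F] {V : Type*} [AddCommGroup V] [Module F V] {H : HForm F V} {n : ℕ}
  {Fr : Frame H (Fin n)}

theorem phiS_hh_e {i j : Fin n} (hij : i ≠ j) (s : Fˣ) :
    phiS Fr hij (hh s) (Fr.b (i, true)) = (s : F) • Fr.b (i, true) := by
  rw [phiS_apply, linS_apply]
  simp only [hh00, hh01, hh10, hh11, map_zero, zero_mul, add_zero, sub_zero, zero_add, neg_zero]
  simp only [H62.FrameSL.hs, H62.FrameSL.ht, H62.FrameSL.hn Fr hij]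
  simp only [mul_zero, mul_one, zero_smul, add_zero]
  module

end frame

section first

variable {K : Type} [Field K] {a b : K} {m : ℕ}
  (hab : ∀ z₁ z₂ : K, z₁ ^ 2 + a * z₁ * z₂ + b * z₂ ^ 2 = 0 → z₁ = 0 ∧ z₂ = 0)
  (hG : Good (minusForm m K a b)) {p : ℕ}

theorem node_first (hA : AmbT (toFrame (wminus m K a b hab)) p (MM hab hG).I) {i : Fin m} (hi : (i : ℕ) + 1 < m) :
    ∃ σ' : SL(2, K) →* (MM hab hG).I,
      (∀ s : Kˣ, (σ' (hh s)).1 ((toFrame (wminus m K a b hab)).b (i, true)) =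
        (s : K) • (toFrame (wminus m K a b hab)).b (i, true)) ∧ Nd (TB (MM hab hG)) (XB (MM hab hG)) i σ' := by
  have hij : i ≠ ⟨i + 1, hi⟩ := by
    intro e
    have := congrArg Fin.val e
    simp only at this
    omega
  set Fr := toFrame (wminus m K a b hab) with hFr
  have hu : ∀ y, y ∈ WittRoot.rg Fr (sr i) ↔ ∃ t, phiS Fr hij (U t) = y := by
    intro y
    rw [rg_sr, PG_ne Fr (H61.SUNode.ne_nx hi), H61.SUNode.nx_of_lt hi, mem_XG]
    exact exists_congr fun t => eq_comm.trans (iff_of_eq (congrArg (· = y) (phiS_up Fr hij t).symm))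
  have hl : ∀ y, y ∈ WittRoot.rg Fr (-sr i) ↔ ∃ t, phiS Fr hij (Lo t) = y := by
    intro y
    rw [rg_neg_sr, PG_ne Fr (a := ng (i, true)) (b := ng (nx i)) (H61.SUNode.ne_nx hi),
      XG_swap Fr (a := ng (i, true)) (b := ng (nx i)) (H61.SUNode.ne_nx hi), H61.SUNode.nx_of_lt hi, mem_XG]
    exact exists_congr fun t => eq_comm.trans (iff_of_eq (congrArg (· = y) (phiS_lo Fr hij t).symm))
  obtain ⟨σ, h1, h2⟩ := exists_nd hA.rg_le (phiS Fr hij) hu hl (phiS_hh hij)
  refine ⟨σ, fun s => ?_, h2⟩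
  rw [h1]
  exact phiS_hh_e hij s

end first

section rank

variable {F : Type u} [Field F] [Finite F] {ι : Type} [Fintype ι] [DecidableEq ι] {P : Subgroup (GL ι F)}
  (hC : Core P) {K : Type} [Field K] [Finite K] {a b : K} {m : ℕ} {p : ℕ} [hp : Fact p.Prime] [hFp : CharP F p]
  [hKp : CharP K p]
  (hab : ∀ z₁ z₂ : K, z₁ ^ 2 + a * z₁ * z₂ + b * z₂ ^ 2 = 0 → z₁ = 0 ∧ z₂ = 0)
  (hG : Good (minusForm m K a b)) (hm : 2 ≤ m)
  (hA : AmbT (toFrame (wminus m K a b hab)) p (MM hab hG).I)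
  {Y : Type w} [Group Y] [Finite Y] {f : Y →* (MM hab hG).I} {φ : Y →* GL ι F} {n₁ : Fin m → Y}
  (C : Cov (CoxeterMatrix.B m).toCoxeterSystem (isCartan m) p (TB (MM hab hG)) (NB hA (pM hab)) (XB (MM hab hG)) P f φ n₁)
include C

/-- the natural module -/
noncomputable abbrev nat (f : Y →* (MM hab hG).I) : Y →* Module.End K ((Fin m ⊕ Fin m) ⊕ Fin 2 → K) :=
  lin ((mt (MM hab hG).I).comp f)

omit C [Finite K] [Finite Y] in
theorem nat_apply (g : Y) (v : (Fin m ⊕ Fin m) ⊕ Fin 2 → K) : nat hab hG f g v = (f g).1 v := by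
  rw [nat, lin_apply, MonoidHom.comp_apply, mt_mulVec]

include hm in
theorem nat_irr (L : Submodule K ((Fin m ⊕ Fin m) ⊕ Fin 2 → K))
    (hL : Ivt (nat hab hG f) (GG (CoxeterMatrix.B m).toCoxeterSystem (isCartan m) ((TB (MM hab hG)).comap f)
      (fun x => lft p f (XB (MM hab hG) x))) L) : L = ⊥ ∨ L = ⊤ := by
  have hWf : Finite (CoxeterMatrix.B m).Group := TypeC.finite_W (CoxeterMatrix.B m).toCoxeterSystem
  have hsN : Submodule.span K (Set.range (mt (MM hab hG).I)) = ⊤ :=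
    span_E hG (by rw [Fintype.card_sum, Fintype.card_sum, Fintype.card_fin, Fintype.card_fin]; omega)
  have hsp₁ : Submodule.span K (Set.range ((mt (MM hab hG).I).comp f)) = ⊤ := by
    rw [← hsN]
    congr 1
    ext x
    constructor
    · rintro ⟨y, rfl⟩
      exact ⟨f y, rfl⟩
    · rintro ⟨y, rfl⟩
      obtain ⟨z, rfl⟩ := C.surj y
      exact ⟨z, rfl⟩
  refine irr_of_span hsp₁ (RingHom.id K) L fun g v hv => ?_
  have h1 := hL g (by rw [C.hGG]; trivial) v hv
  have e : lin (twr (RingHom.id K) ((mt (MM hab hG).I).comp f)) g v = nat hab hG f g v := by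
    rw [nat, lin_apply, lin_apply, twr_apply]
    rfl
  rw [e]
  exact h1

/-- the natural module at the first node -/
theorem nat_at {o : Fin m} (hm1 : 1 < m) (ho : (o : ℕ) = 0) :
    NatAt ((TB (MM hab hG)).comap f) n₁ (fun x => lft p f (XB (MM hab hG) x)) (nat hab hG f) o
      ((toFrame (wminus m K a b hab)).b (o, true)) :=
  (natAt_C hA (pc_ne hab) hm1 ho (CoxeterMatrix.B m).toCoxeterSystem).comap (p := p) (f := f) C.hn

theorem nat_D {o : Fin m} (hm1 : 1 < m) (ho : (o : ℕ) = 0) : (toFrame (wminus m K a b hab)).b (o, true) ∈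
    D (CoxeterMatrix.B m).toCoxeterSystem (isCartan m) (fun x => lft p f (XB (MM hab hG) x)) (nat hab hG f) := by
  intro x hx
  exact fixC (Fr := toFrame (wminus m K a b hab)) (G0 := (MM hab hG).I) hm1 ho (CoxeterMatrix.B m).toCoxeterSystem _
    (map_Sup_lft_le f _ (Subgroup.mem_map_of_mem f hx))

/-- the functional -/
noncomputable def fq (s : (Fin m ⊕ Fin m) ⊕ Fin 2 → K) : Module.Dual K ((Fin m ⊕ Fin m) ⊕ Fin 2 → K) :=
  (minusForm m K a b).polarBilin s

omit C [Finite K] in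
theorem fq_apply (s v : (Fin m ⊕ Fin m) ⊕ Fin 2 → K) :
    fq (a := a) (b := b) s v = polar (minusForm m K a b) s v := rfl

omit C [Finite Y] [Finite K] in
theorem dual_fq (g : Y) (s : (Fin m ⊕ Fin m) ⊕ Fin 2 → K) :
    dualRep (nat hab hG f) g (fq (a := a) (b := b) s) = fq (a := a) (b := b) ((f g).1 s) := by
  refine LinearMap.ext fun v => ?_
  rw [dualRep_apply, fq_apply, fq_apply, nat_apply]
  have h1 : (f g).1 ∈ O (minusForm m K a b) := E_le_O (f g).2
  rw [← polar_map h1]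
  congr 1
  rw [map_inv]
  exact (f g).1.apply_symm_apply v

theorem fq_mem {o : Fin m} (hm1 : 1 < m) (ho : (o : ℕ) = 0) :
    fq (a := a) (b := b) ((toFrame (wminus m K a b hab)).b (o, false)) ∈ fx (dualRep (nat hab hG f))
      (UN (CoxeterMatrix.B m).toCoxeterSystem (isCartan m) (fun x => lft p f (XB (MM hab hG) x))) := by
  have hWf : Finite (CoxeterMatrix.B m).Group := TypeC.finite_W (CoxeterMatrix.B m).toCoxeterSystem
  let S : Subgroup (MM hab hG).I :=
    { carrier := {g | g.1 ((toFrame (wminus m K a b hab)).b (o, false)) = (toFrame (wminus m K a b hab)).b (o, false)}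
      one_mem' := rfl
      mul_mem' := by
        intro a b (ha : a.1 _ = _) (hb : b.1 _ = _)
        change a.1 (b.1 _) = _
        rw [hb, ha]
      inv_mem' := by
        intro a (ha : a.1 _ = _)
        change (a.1).symm _ = _
        rw [LinearEquiv.symm_apply_eq, ha] }
  have h1 : UN (CoxeterMatrix.B m).toCoxeterSystem (isCartan m) (fun x => lft p f (XB (MM hab hG) x)) ≤ S.comap f := by
    refine RGD.Sup_le fun x hx u hu => ?_
    have h2 : f u ∈ XB (MM hab hG) x := map_lft_le p f _ (Subgroup.mem_map_of_mem f hu)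
    exact H69.Ppd.rg_fix' (Fr := toFrame (wminus m K a b hab)) hm1 ho hx.1 (hx.2 o) h2
  intro g hg
  rw [dual_fq]
  congr 1
  exact h1 hg

include hm in
/-- the type of the natural module -/
theorem nat_jx {o : Fin m} (ho : (o : ℕ) = 0) (i : Fin m) :
    i ∈ Jx (CoxeterMatrix.B m).toCoxeterSystem (isCartan m) (fun x => lft p f (XB (MM hab hG) x)) (nat hab hG f) ↔
      i ≠ o := by
  have hWf : Finite (CoxeterMatrix.B m).Group := TypeC.finite_W (CoxeterMatrix.B m).toCoxeterSystem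
  have HN := nat_at hab hG hA C (by omega) ho
  have hD := nat_D hab hG hA C (by omega) ho
  constructor
  · rintro hi rfl
    obtain ⟨u, hu, hu1⟩ := (lft p f (XB (MM hab hG) (-sr i))).bot_or_exists_ne_one.resolve_left
      (X_ne_bot C.rgd (isRoot_sr _ (isCartan m) i).neg)
    obtain ⟨x, hx, t, ht, y, hy, e⟩ := C.rgd.rk1 i u hu hu1
    have e2 : n₁ i = t⁻¹ * (x⁻¹ * (u * y⁻¹)) := by rw [e]; group
    obtain ⟨r, hr⟩ := HN.tor _ (inv_mem ht)
    apply HN.ind r
    rw [e2, rho_mul, rho_mul, rho_mul, HN.fix i _ (inv_mem hy), hi u hu _ hD, HN.fix i _ (inv_mem hx), hr]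
  · intro hi
    choose χ hχ using fun t : Y => show ∃ r : K, t ∈ (TB (MM hab hG)).comap f →
        nat hab hG f t ((toFrame (wminus m K a b hab)).b (o, true)) = r • (toFrame (wminus m K a b hab)).b (o, true) by
      by_cases ht : t ∈ (TB (MM hab hG)).comap f
      · obtain ⟨r, hr⟩ := HN.tor t ht
        exact ⟨r, fun _ => hr⟩
      · exact ⟨0, fun h => absurd h ht⟩
    have hnV : Nontrivial ((Fin m ⊕ Fin m) ⊕ Fin 2 → K) := nontrivial_of_ne _ _ HN.c0
    have hspan := fx_eq_span C.rgd (nat hab hG f) (nat_irr hab hG hm hA C) hD HN.c0 hχ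
    intro x hx v hv
    have hv' : v ∈ fx (nat hab hG f) (RGD.Sup (fun x => lft p f (XB (MM hab hG) x))
      (RGD.Pos (CoxeterMatrix.B m).toCoxeterSystem (isCartan m))) := hv
    rw [hspan] at hv'
    obtain ⟨r, rfl⟩ := Submodule.mem_span_singleton.1 hv'
    rw [map_smul, HN.neg i hi x hx]

include hm hC in
/-- **The rank.** -/
theorem rank_minus (hT : ∀ s ∈ (TB (MM hab hG)).comap f, ∀ t ∈ (TB (MM hab hG)).comap f, s * t = t * s)
    {o : Fin m} (ho : (o : ℕ) = 0) (hJ : ∀ i, i ∉ JB (MM hab hG) p f φ ↔ i = o)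
    (hcard : Nat.card K = Nat.card F ^ 2) (hd : dB (MM hab hG) p f φ o = 4) :
    (2 * m + 2) ^ 2 ≤ Fintype.card ι := by
  classical
  have hWf : Finite (CoxeterMatrix.B m).Group := TypeC.finite_W (CoxeterMatrix.B m).toCoxeterSystem
  have hne := hC.nonempty
  have hchar : CharP (AlgebraicClosure F) p := charP_of_injective_algebraMap (algebraMap F _).injective p
  have hirr := ac_irr C.rgd C.hGG hT C.range hC.absIrred
  obtain ⟨c, hc, hc0, χ, hχ⟩ := exists_chi C.rgd hirr hT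
  have := Fintype.ofFinite K
  have := Fintype.ofFinite F
  obtain ⟨j⟩ := H875.Psl2.exists_emb F K p
  have HN := nat_at hab hG hA C (by omega) ho
  have hD := nat_D hab hG hA C (by omega) ho
  -- the first node
  obtain ⟨σ', h1, N'⟩ := node_first hab hG hA (i := o) (by omega)
  obtain ⟨σ, hσ, N⟩ := lift_nd C (pc_ne hab) N'
  have N₁ : H650.Ppd.Nd ((TB (MM hab hG)).comap f) (fun x => lft p f (XB (MM hab hG) x)) o σ := ⟨N.up, N.lo, N.tor⟩
  obtain ⟨a₀, -, ha₀⟩ := FiniteField.card F p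
  rw [← Nat.card_eq_fintype_card] at ha₀
  have hK : Nat.card K = p ^ ((a₀ : ℕ) * 2) := by rw [hcard, ha₀, ← pow_mul]
  have hgcd : Nat.gcd (a₀ : ℕ) (a₀ * 2) = a₀ := Nat.gcd_eq_left (Dvd.intro _ rfl)
  obtain ⟨r₀, hr0, hr1, hr2, hr3⟩ := H650.Ppd.edge_data C.rgd C.hGG hT C.range hC.absIrred N₁ ((hJ o).2 rfl)
    (s := 2) ha₀ hK (by rw [hgcd, mul_comm]) j hc hc0 hχ
  have hSS : (SS p r₀).card = 2 := by
    have h2 : (SS p r₀).card ^ 2 = 4 := by rw [← hr3]; exact hd
    nlinarith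
  obtain ⟨t, rfl⟩ := eq_pow_of_card_SS p r₀ hSS
  rw [hgcd] at hr1 hr2
  have ht : t < a₀ := (Nat.pow_lt_pow_iff_right hp.out.one_lt).1 hr1
  have hpos := a₀.pos
  have hexp : p ^ t * ∑ l ∈ Finset.range 2, (p ^ (a₀ : ℕ)) ^ l = ∑ i ∈ ({t, t + a₀} : Finset ℕ), p ^ i := by
    rw [Finset.sum_pair (by omega), Finset.sum_range_succ, Finset.sum_range_one, pow_zero, pow_one, pow_add]
    ring
  rw [hexp] at hr2
  set e := ∑ i ∈ ({t, t + (a₀ : ℕ)} : Finset ℕ), p ^ i with he
  have he0 : e ≠ 0 := by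
    rw [← hexp]
    exact Nat.mul_ne_zero hr0 (by rw [Finset.sum_range_succ, Finset.sum_range_one, pow_zero]; omega)
  set m₀ := (toFrame (wminus m K a b hab)).b (o, true) with hm₀
  -- the torus
  let S : Subgroup Y :=
    { carrier := {y | ∃ r : K, r ≠ 0 ∧ nat hab hG f y m₀ = r • m₀ ∧ lin (acRep φ) y c = (j r) ^ e • c}
      one_mem' := ⟨1, one_ne_zero, by rw [rho_one, one_smul], by rw [rho_one, map_one, one_pow, one_smul]⟩
      mul_mem' := by
        rintro x y ⟨r, h1, h2, h3⟩ ⟨s, h4, h5, h6⟩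
        refine ⟨s * r, mul_ne_zero h4 h1, ?_, ?_⟩
        · rw [rho_mul, h5, map_smul, h2, smul_smul]
        · rw [rho_mul, h6, map_smul, h3, smul_smul, map_mul, mul_pow]
      inv_mem' := by
        rintro x ⟨r, h1, h2, h3⟩
        refine ⟨r⁻¹, inv_ne_zero h1, ?_, ?_⟩
        · have h4 := rho_inv_rho (nat hab hG f) x m₀
          rw [h2, map_smul] at h4
          rw [← h4, smul_smul, inv_mul_cancel₀ h1, one_smul, h4]
        · have h4 := rho_inv_rho (lin (acRep φ)) x c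
          rw [h3, map_smul] at h4
          have h5 : j r ^ e ≠ 0 := pow_ne_zero _ ((map_ne_zero j).2 h1)
          rw [map_inv₀, inv_pow]
          rw [← h4, smul_smul, inv_mul_cancel₀ h5, one_smul, h4] }
  have hTS : (TB (MM hab hG)).comap f ≤ S := by
    refine torus_ind.{w, 0} C.rgd C.gen fun i => ?_
    by_cases hi : i = o
    · subst hi
      refine ⟨K, inferInstance, σ, N, fun s => ⟨s, s.ne_zero, ?_, ?_⟩⟩
      · rw [nat_apply, hσ]
        exact h1 s
      · rw [hχ _ (N.tor s), hr2]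
    · obtain ⟨E, i1, i2, i3, σ'', -, -, N''⟩ := nodesD hab hG hA i
      obtain ⟨τ, hτ, Nτ⟩ := lift_nd C (pc_ne hab) N''
      refine ⟨E, i1, τ, Nτ, fun s => ⟨1, one_ne_zero, ?_, ?_⟩⟩
      all_goals have hmem : τ (hh s) ∈ lft p f (XB (MM hab hG) (sr i)) ⊔ lft p f (XB (MM hab hG) (-sr i)) := by
                  rw [← Nτ.range_eq C.rgd]
                  exact ⟨_, rfl⟩
      · have h2 : lft p f (XB (MM hab hG) (sr i)) ⊔ lft p f (XB (MM hab hG) (-sr i)) ≤
            H353.Ker.stab (nat hab hG f) m₀ := sup_le (fun x hx => HN.fix i x hx) (fun x hx => HN.neg i hi x hx)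
        rw [one_smul]
        exact h2 hmem
      · have hiJ : i ∈ JB (MM hab hG) p f φ := by
          by_contra h3
          exact hi ((hJ i).1 h3)
        have h2 : lft p f (XB (MM hab hG) (sr i)) ⊔ lft p f (XB (MM hab hG) (-sr i)) ≤
            H353.Ker.stab (lin (acRep φ)) c := sup_le (fun x hx => X_fix C.rgd _ hc i hx) (fun x hx => hiJ x hx c hc)
        rw [map_one, one_pow, one_smul]
        exact h2 hmem
  choose ψ hψ using fun y : Y => show ∃ r : K, y ∈ (TB (MM hab hG)).comap f →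
      nat hab hG f y m₀ = r • m₀ ∧ lin (acRep φ) y c = (j r) ^ e • c by
    by_cases hy : y ∈ (TB (MM hab hG)).comap f
    · obtain ⟨r, -, h2, h3⟩ := hTS hy
      exact ⟨r, fun _ => ⟨h2, h3⟩⟩
    · exact ⟨0, fun h => absurd h hy⟩
  have hJe : Jx (CoxeterMatrix.B m).toCoxeterSystem (isCartan m) (fun x => lft p f (XB (MM hab hG) x))
      (lin (acRep φ)) = Jx (CoxeterMatrix.B m).toCoxeterSystem (isCartan m) (fun x => lft p f (XB (MM hab hG) x))
      (nat hab hG f) := by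
    ext i
    rw [nat_jx hab hG hm hA C ho i]
    constructor
    · intro h2 h3
      exact (hJ i).2 h3 h2
    · intro h2
      by_contra h3
      exact h2 ((hJ i).1 h3)
  have hnV : Nontrivial ((Fin m ⊕ Fin m) ⊕ Fin 2 → K) := nontrivial_of_ne _ _ HN.c0
  have hpair : ∀ i : Fin m, polar (minusForm m K a b) ((toFrame (wminus m K a b hab)).b (i, false))
      ((toFrame (wminus m K a b hab)).b (i, true)) = 1 := by
    intro i
    have h2 := h_e (a := a) (b := b) hab i ((wminus m K a b hab).f i)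
    rw [HO_h] at h2
    refine Eq.trans h2 ?_
    change (Pi.single (Sum.inl (Sum.inr i)) 1 : (Fin m ⊕ Fin m) ⊕ Fin 2 → K) (Sum.inl (Sum.inr i)) = 1
    rw [Pi.single_eq_same]
  have hsing : ∀ x, minusForm m K a b ((toFrame (wminus m K a b hab)).b x) = 0 := by
    rintro ⟨i, s⟩
    cases s
    · change minusForm m K a b (Pi.single (Sum.inl (Sum.inr i)) 1) = 0
      rw [coe_minusForm, quadFormMinus_apply]
      simp
    · change minusForm m K a b (Pi.single (Sum.inl (Sum.inl i)) 1) = 0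
      rw [coe_minusForm, quadFormMinus_apply]
      simp
  have hμ0 : fq (a := a) (b := b) ((toFrame (wminus m K a b hab)).b (o, false)) ≠ 0 := by
    intro h0
    have h2 := hpair o
    rw [← fq_apply, h0] at h2
    exact zero_ne_one h2
  have hb0 : ∀ x, (toFrame (wminus m K a b hab)).b x ≠ 0 := fun x => WittRGD.b_ne_zero x
  have h4 := H353.Ker.le_finrank_of_pow C.rgd hirr (nat_irr hab hG hm hA C) hc hc0 hD HN.c0
    (fq_mem hab hG hA C (by omega) ho) hμ0 hJe (χ := fun y => j (ψ y) ^ e) (ψ := ψ) (fun y hy => (hψ y hy).2)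
    (fun y hy => (hψ y hy).1) j he0 (fun y hy => rfl)
    (fun v : {v : (Fin m ⊕ Fin m) ⊕ Fin 2 → K // v ≠ 0 ∧ minusForm m K a b v = 0} => v.1) (by
      rintro ⟨v, hv0, hv⟩
      obtain ⟨g, hg, hgv⟩ := hG.trans_sing (hsing (o, true)) hv (hb0 _) hv0
      obtain ⟨y, hy⟩ := C.surj ⟨g, hg⟩
      refine ⟨y, by rw [C.hGG]; trivial, 1, one_ne_zero, ?_⟩
      rw [one_smul, nat_apply, hy]
      exact hgv)
    (fun v : {v : (Fin m ⊕ Fin m) ⊕ Fin 2 → K // v ≠ 0 ∧ minusForm m K a b v = 0} => fq (a := a) (b := b) v.1) (by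
      rintro ⟨v, hv0, hv⟩
      obtain ⟨g, hg, hgv⟩ := hG.trans_sing (hsing (o, false)) hv (hb0 _) hv0
      obtain ⟨y, hy⟩ := C.surj ⟨g, hg⟩
      refine ⟨y, by rw [C.hGG]; trivial, 1, one_ne_zero, ?_⟩
      rw [one_smul, dual_fq, hy]
      congr 1)
  have hone : o ≠ ⟨1, hm⟩ := by
    intro h5
    rw [h5] at ho
    exact one_ne_zero ho
  have horth : polar (minusForm m K a b) ((toFrame (wminus m K a b hab)).b (o, true))
      ((toFrame (wminus m K a b hab)).b (⟨1, hm⟩, true)) = 0 := by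
    have h2 := h_e (a := a) (b := b) hab ⟨1, hm⟩ ((wminus m K a b hab).e o)
    rw [HO_h] at h2
    refine Eq.trans h2 ?_
    change (Pi.single (Sum.inl (Sum.inl o)) 1 : (Fin m ⊕ Fin m) ⊕ Fin 2 → K) (Sum.inl (Sum.inr ⟨1, hm⟩)) = 0
    rw [Pi.single_eq_of_ne (by simp)]
  have hind : ∀ r s : K, r • (toFrame (wminus m K a b hab)).b (o, true) +
      s • (toFrame (wminus m K a b hab)).b (⟨1, hm⟩, true) = 0 → r = 0 ∧ s = 0 := by
    intro r s h5
    have h6 : r • (Pi.single (Sum.inl (Sum.inl o)) 1 : (Fin m ⊕ Fin m) ⊕ Fin 2 → K) +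
      s • (Pi.single (Sum.inl (Sum.inl ⟨1, hm⟩)) 1 : (Fin m ⊕ Fin m) ⊕ Fin 2 → K) = 0 := h5
    have h7 := congrFun h6 (Sum.inl (Sum.inl o))
    have h8 := congrFun h6 (Sum.inl (Sum.inl ⟨1, hm⟩))
    rw [Pi.add_apply, Pi.smul_apply, Pi.smul_apply, Pi.single_eq_same, Pi.single_eq_of_ne (by simpa using hone),
      smul_zero, add_zero, smul_eq_mul, mul_one] at h7
    rw [Pi.add_apply, Pi.smul_apply, Pi.smul_apply, Pi.single_eq_same, Pi.single_eq_of_ne (by simpa using hone.symm),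
      smul_zero, zero_add, smul_eq_mul, mul_one] at h8
    exact ⟨h7, h8⟩
  have h5 := H353.Ker.rk_quadForm (p := p) (k := AlgebraicClosure F) hK (Q := ⇑(minusForm m K a b))
    (H925.isND_of_nondeg (nondeg_minusForm m K a b hab)) (hsing (o, true)) (hsing (⟨1, hm⟩, true)) horth hind
    (T := {t, t + (a₀ : ℕ)}) (by
      intro x hx
      rcases Finset.mem_insert.1 hx with rfl | hx
      · omega
      · rw [Finset.mem_singleton] at hx
        omega) j
    (fun v : {v : (Fin m ⊕ Fin m) ⊕ Fin 2 → K // v ≠ 0 ∧ minusForm m K a b v = 0} => fq (a := a) (b := b) v.1)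
    (fun s hs hs' => ⟨⟨s, hs, hs'⟩, 1, one_ne_zero, fun v => (one_mul _).symm⟩)
    (fun v : {v : (Fin m ⊕ Fin m) ⊕ Fin 2 → K // v ≠ 0 ∧ minusForm m K a b v = 0} => v.1)
    (fun s hs hs' => ⟨⟨s, hs, hs'⟩, 1, one_ne_zero, (one_smul _ _).symm⟩)
  rw [Module.finrank_fintype_fun_eq_card] at h4
  rw [h5, Finset.card_pair (by omega), Fintype.card_sum, Fintype.card_sum, Fintype.card_fin, Fintype.card_fin] at h4
  have h6 : m + m + 2 = 2 * m + 2 := by ring
  rwa [h6] at h4

end rank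

end Minus

end Cfsg.Agent.H948.Ppd
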