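import Cfsg.Agent.H948.Ppd.NdWitt
import Cfsg.Agent.H48.OMult

/-!
# The last node of an odd dimensional orthogonal group (helper948)

* `phiO_hh` : the diagonal matrices act diagonally on the frame;
* **`nd_last_odd`** : `SL_2(F)` at the last node.
-/

set_option autoImplicit false
set_option linter.unusedSectionVars false
set_option linter.style.haveILetI false

namespace Cfsg.Agent.H948.Ppd

open QuadraticMap
open CoxeterSystem Cfsg.Agent.ChevalleyStructure.CoxeterGeom Cfsg.Agent.Tits.Roots Cfsg.Agent.Nodes.TypeC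
open Cfsg.Agent.Nodes.Comb Cfsg.Agent.Nodes.Reps Cfsg.Agent.Nodes.WittRoot Cfsg.Agent.Nodes.BNOf
open Cfsg.Agent.Nodes.WittRGD Cfsg.Agent.Nodes.RGDLib Cfsg.Agent.Nodes.WittAll Cfsg.Agent.Nodes
open Cfsg.Agent.LieClassical Cfsg.Agent.LieClassical.OrthCore Cfsg.Agent.LieClassical.OrthTrans
open Cfsg.Agent.LieClassical.OrthSimple Cfsg.Agent.LieClassical.OrthFinite
open Cfsg.Agent.TitsThree Cfsg.Agent.TitsThree.Siegel Cfsg.Agent.TitsThree.SiegelGen Cfsg.Agent.TitsThree.WittFrame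
open Cfsg.Agent.TitsThree.WBridge Cfsg.Agent.TitsThree.FrameCN Cfsg.Agent.TitsThree.KSideO
open Cfsg.Agent.H911.SLTwo Cfsg.Agent.H48.OCross
open scoped MatrixGroups

universe u

variable {ι : Type} [Fintype ι] [DecidableEq ι] {F : Type u} [Field F] {Q : QuadraticForm F (ι → F)} {m : ℕ}
  {W : WFrame (PO Q) m} {d : ι → F}

theorem phiO_hh (h2 : (2 : F) ≠ 0) (hd : Span W d) (i : Fin m) (s : Fˣ) :
    WittRoot.Mono (toFrame W) (phiO (hd.triple h2 i) (hh s)) id := by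
  have hs0 : (s : F) ≠ 0 := s.ne_zero
  have hdd : ∀ k b, polar Q ((toFrame W).b (k, b)) d = 0 := by
    intro k b
    cases b
    · exact W.fV0 k hd.mem
    · exact W.eV0 k hd.mem
  rintro ⟨k, b⟩
  rw [id, phiO_apply, linO_apply]
  simp only [hh00, hh01, hh10, hh11, hdd]
  by_cases hk : k = i
  · subst hk
    cases b
    · have e1 : polar Q ((toFrame W).b (k, false)) (W.e k) = 1 := by
        rw [polar_comm]
        exact (W.ef k k).trans (if_pos rfl)
      have e2 : polar Q ((toFrame W).b (k, false)) (W.f k) = 0 := W.ff k k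
      rw [e1, e2]
      refine ⟨((s⁻¹ : Fˣ) : F) ^ 2, pow_ne_zero 2 (s⁻¹).ne_zero, ?_⟩
      change W.f k + _ + _ + _ = _ • W.f k
      module
    · have e1 : polar Q ((toFrame W).b (k, true)) (W.e k) = 0 := W.ee k k
      have e2 : polar Q ((toFrame W).b (k, true)) (W.f k) = 1 := (W.ef k k).trans (if_pos rfl)
      rw [e1, e2]
      refine ⟨(s : F) ^ 2, pow_ne_zero 2 hs0, ?_⟩
      change W.e k + _ + _ + _ = _ • W.e k
      module
  · have e1 : polar Q ((toFrame W).b (k, b)) (W.e i) = 0 := by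
      cases b
      · rw [polar_comm]
        exact (W.ef i k).trans (if_neg (Ne.symm hk))
      · exact W.ee k i
    have e2 : polar Q ((toFrame W).b (k, b)) (W.f i) = 0 := by
      cases b
      · exact W.ff k i
      · exact (W.ef k i).trans (if_neg hk)
    rw [e1, e2]
    refine ⟨1, one_ne_zero, ?_⟩
    module

/-- **The last node, odd dimension.** -/
theorem nd_last_odd (h2 : (2 : F) ≠ 0) (hd : Span W d) {G0 : Subgroup ((ι → F) ≃ₗ[F] (ι → F))}
    (hle : ∀ x, WittRoot.rg (toFrame W) x ≤ G0) {i : Fin m} (hi : ¬ (i : ℕ) + 1 < m) :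
    ∃ σ : SL(2, F) →* G0, Nd ((Tor (toFrame W) G0).subgroupOf G0)
      (fun x => (WittRoot.rg (toFrame W) x).subgroupOf G0) i σ := by
  have hadm : ∀ t : F, ∃ p : (toFrame W).Adm, p.w = t • d := fun t =>
    ⟨⟨t • d, -Q (t • d), W.V0.smul_mem t hd.mem, rfl⟩, rfl⟩
  have hu : ∀ y, y ∈ WittRoot.rg (toFrame W) (sr i) ↔ ∃ t, phiO (hd.triple h2 i) (U t) = y := by
    intro y
    rw [rg_sr, H61.SUNode.nx_of_not hi, PG_self]
    constructor
    · rintro ⟨p, rfl⟩
      obtain ⟨t, ht⟩ := hd.span p.w p.ok.1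
      exact ⟨t, phiO_up h2 hd i t p ht⟩
    · rintro ⟨t, rfl⟩
      obtain ⟨p, hp⟩ := hadm t
      exact ⟨p, phiO_up h2 hd i t p hp⟩
  have hl : ∀ y, y ∈ WittRoot.rg (toFrame W) (-sr i) ↔ ∃ t, phiO (hd.triple h2 i) (Lo t) = y := by
    intro y
    rw [rg_neg_sr, H61.SUNode.nx_of_not hi, PG_self]
    constructor
    · rintro ⟨p, rfl⟩
      obtain ⟨t, ht⟩ := hd.span p.w p.ok.1
      exact ⟨-t, phiO_lo h2 hd i (-t) p (by rw [_root_.neg_neg]; exact ht)⟩
    · rintro ⟨t, rfl⟩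
      obtain ⟨p, hp⟩ := hadm (-t)
      exact ⟨p, phiO_lo h2 hd i t p hp⟩
  obtain ⟨σ, -, hσ⟩ := exists_nd hle (phiO (hd.triple h2 i)) hu hl (phiO_hh h2 hd i)
  exact ⟨σ, hσ⟩

end Cfsg.Agent.H948.Ppd
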