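import Cfsg.Agent.H948.Ppd.NdWitt
import Cfsg.Agent.TitsThree.KSideO
import Mathlib.Algebra.QuadraticAlgebra.Basic

/-!
# The last node of an orthogonal group of minus type (helper948)

`E = K[ω]`, `ω² = a ω - b`, with norm `x² + a x y + b y²`; `SL_2(E)` acts on the hermitian `2 × 2` matrices
`[x, z; z̄, y]`, the quadratic form is `- det`.

* `linM`, `phiM` : `SL_2(E)` in the isometry group of `quadFormMinus m K a b`;
* `phiM_up`, `phiM_lo`, `phiM_hh`;
* `Dg` : the diagonal maps; **`exists_last`**, **`exists_long`** : the nodes.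
-/

set_option autoImplicit false
set_option linter.unusedSectionVars false
set_option linter.style.haveILetI false
set_option maxHeartbeats 400000

namespace Cfsg.Agent.H948.Ppd

open QuadraticMap QuadraticAlgebra
open CoxeterSystem Cfsg.Agent.ChevalleyStructure.CoxeterGeom Cfsg.Agent.Tits.Roots
open Cfsg.Agent.Nodes.Comb Cfsg.Agent.Nodes.Reps Cfsg.Agent.Nodes.WittRoot Cfsg.Agent.Nodes.BNOf
open Cfsg.Agent.Nodes.WittRGD Cfsg.Agent.Nodes.RGDLib Cfsg.Agent.Nodes.WittAll Cfsg.Agent.Nodes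
open Cfsg.Agent.LieClassical Cfsg.Agent.LieClassical.OrthCore Cfsg.Agent.LieClassical.OrthTrans
open Cfsg.Agent.LieClassical.OrthSimple Cfsg.Agent.LieClassical.OrthFinite Cfsg.Agent.LieClassical.OrthForms
open Cfsg.Agent.TitsThree Cfsg.Agent.TitsThree.Siegel Cfsg.Agent.TitsThree.SiegelGen Cfsg.Agent.TitsThree.WittFrame
open Cfsg.Agent.TitsThree.WBridge Cfsg.Agent.TitsThree.FrameCN Cfsg.Agent.TitsThree.KSideO
open scoped MatrixGroups Matrix

namespace Minus

section lin

variable {K : Type} [Field K] {a b : K} {m : ℕ}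

/-- the quadratic extension -/
abbrev EE (a b : K) : Type := QuadraticAlgebra K (-b) a

/-- the coordinate of the anisotropic part -/
def cz (a b : K) (v : (Fin m ⊕ Fin m) ⊕ Fin 2 → K) : EE a b := ⟨v (Sum.inr 0), v (Sum.inr 1)⟩

theorem cz_add (v w : (Fin m ⊕ Fin m) ⊕ Fin 2 → K) : cz a b (v + w) = cz a b v + cz a b w := rfl

theorem cz_smul (c : K) (v : (Fin m ⊕ Fin m) ⊕ Fin 2 → K) : cz a b (c • v) = c • cz a b v := rfl

/-- the coordinates of the image -/
def px (i : Fin m) (g : Matrix (Fin 2) (Fin 2) (EE a b)) (v : (Fin m ⊕ Fin m) ⊕ Fin 2 → K) : K :=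
  norm (g 0 0) * v (Sum.inl (Sum.inl i)) + trace (g 0 0 * cz a b v * star (g 0 1)) -
    norm (g 0 1) * v (Sum.inl (Sum.inr i))

/-- the coordinates of the image -/
def py (i : Fin m) (g : Matrix (Fin 2) (Fin 2) (EE a b)) (v : (Fin m ⊕ Fin m) ⊕ Fin 2 → K) : K :=
  norm (g 1 0) * v (Sum.inl (Sum.inl i)) + trace (g 1 0 * cz a b v * star (g 1 1)) -
    norm (g 1 1) * v (Sum.inl (Sum.inr i))

/-- the coordinates of the image -/
def pz (i : Fin m) (g : Matrix (Fin 2) (Fin 2) (EE a b)) (v : (Fin m ⊕ Fin m) ⊕ Fin 2 → K) : EE a b :=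
  v (Sum.inl (Sum.inl i)) • (g 0 0 * star (g 1 0)) + g 0 1 * star (cz a b v) * star (g 1 0) +
    g 0 0 * cz a b v * star (g 1 1) - v (Sum.inl (Sum.inr i)) • (g 0 1 * star (g 1 1))

/-- the action of a matrix -/
def linM (i : Fin m) (g : Matrix (Fin 2) (Fin 2) (EE a b)) :
    ((Fin m ⊕ Fin m) ⊕ Fin 2 → K) →ₗ[K] ((Fin m ⊕ Fin m) ⊕ Fin 2 → K) where
  toFun v := Sum.elim (Sum.elim (fun k => if k = i then px i g v else v (Sum.inl (Sum.inl k)))
    (fun k => if k = i then -py i g v else v (Sum.inl (Sum.inr k)))) ![(pz i g v).re, (pz i g v).im]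
  map_add' v w := by
    have h1 : px i g (v + w) = px i g v + px i g w := by
      unfold px
      rw [cz_add, mul_add, add_mul, map_add, Pi.add_apply, Pi.add_apply]
      ring
    have h2 : py i g (v + w) = py i g v + py i g w := by
      unfold py
      rw [cz_add, mul_add, add_mul, map_add, Pi.add_apply, Pi.add_apply]
      ring
    have h3 : pz i g (v + w) = pz i g v + pz i g w := by
      unfold pz
      rw [cz_add, star_add, Pi.add_apply, Pi.add_apply, add_smul, add_smul]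
      ring
    funext s
    rw [h1, h2, h3]
    rcases s with (k | k) | s
    · simp only [Sum.elim_inl, Pi.add_apply]
      split_ifs <;> rfl
    · simp only [Sum.elim_inl, Sum.elim_inr, Pi.add_apply]
      split_ifs
      · ring
      · rfl
    · fin_cases s <;> rfl
  map_smul' c v := by
    have h1 : px i g (c • v) = c * px i g v := by
      unfold px
      rw [cz_smul, mul_smul_comm, smul_mul_assoc, map_smul, Pi.smul_apply, Pi.smul_apply, smul_eq_mul, smul_eq_mul,
        smul_eq_mul]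
      ring
    have h2 : py i g (c • v) = c * py i g v := by
      unfold py
      rw [cz_smul, mul_smul_comm, smul_mul_assoc, map_smul, Pi.smul_apply, Pi.smul_apply, smul_eq_mul, smul_eq_mul,
        smul_eq_mul]
      ring
    have h4 : star (c • cz a b v) = c • star (cz a b v) := by
      ext <;> simp <;> ring
    have h3 : pz i g (c • v) = c • pz i g v := by
      unfold pz
      rw [cz_smul, h4, Pi.smul_apply, Pi.smul_apply, smul_eq_mul, smul_eq_mul, mul_smul_comm, mul_smul_comm,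
        smul_mul_assoc, smul_mul_assoc, mul_smul, mul_smul, smul_sub, smul_add, smul_add]
    funext s
    rw [h1, h2, h3]
    rcases s with (k | k) | s
    · simp only [Sum.elim_inl, Pi.smul_apply, smul_eq_mul, RingHom.id_apply]
      split_ifs <;> rfl
    · simp only [Sum.elim_inl, Sum.elim_inr, Pi.smul_apply, smul_eq_mul, RingHom.id_apply]
      split_ifs
      · ring
      · rfl
    · fin_cases s <;> rfl

theorem linM_inl_inl (i : Fin m) (g : Matrix (Fin 2) (Fin 2) (EE a b)) (v : (Fin m ⊕ Fin m) ⊕ Fin 2 → K) (k : Fin m) :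
    linM i g v (Sum.inl (Sum.inl k)) = if k = i then px i g v else v (Sum.inl (Sum.inl k)) := rfl

theorem linM_inl_inr (i : Fin m) (g : Matrix (Fin 2) (Fin 2) (EE a b)) (v : (Fin m ⊕ Fin m) ⊕ Fin 2 → K) (k : Fin m) :
    linM i g v (Sum.inl (Sum.inr k)) = if k = i then -py i g v else v (Sum.inl (Sum.inr k)) := rfl

theorem cz_linM (i : Fin m) (g : Matrix (Fin 2) (Fin 2) (EE a b)) (v : (Fin m ⊕ Fin m) ⊕ Fin 2 → K) :
    cz a b (linM i g v) = pz i g v := rfl

/-- the hermitian matrix -/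
def mat (a b : K) (i : Fin m) (v : (Fin m ⊕ Fin m) ⊕ Fin 2 → K) : Matrix (Fin 2) (Fin 2) (EE a b) :=
  !![algebraMap K (EE a b) (v (Sum.inl (Sum.inl i))), cz a b v; star (cz a b v),
    -algebraMap K (EE a b) (v (Sum.inl (Sum.inr i)))]

theorem mat_linM (i : Fin m) (g : Matrix (Fin 2) (Fin 2) (EE a b)) (v : (Fin m ⊕ Fin m) ⊕ Fin 2 → K) :
    mat a b i (linM i g v) = g * mat a b i v * gᴴ := by
  have e1 : algebraMap K (EE a b) (px i g v) = g 0 0 * algebraMap K (EE a b) (v (Sum.inl (Sum.inl i))) * star (g 0 0) +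
      (g 0 0 * cz a b v * star (g 0 1) + star (g 0 0 * cz a b v * star (g 0 1))) -
      g 0 1 * algebraMap K (EE a b) (v (Sum.inl (Sum.inr i))) * star (g 0 1) := by
    unfold px
    rw [map_sub, map_add, RingHom.map_mul, RingHom.map_mul, algebraMap_norm_eq_mul_star, algebraMap_norm_eq_mul_star,
      algebraMap_trace_eq_add_star]
    ring
  have e2 : algebraMap K (EE a b) (py i g v) = g 1 0 * algebraMap K (EE a b) (v (Sum.inl (Sum.inl i))) * star (g 1 0) +
      (g 1 0 * cz a b v * star (g 1 1) + star (g 1 0 * cz a b v * star (g 1 1))) -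
      g 1 1 * algebraMap K (EE a b) (v (Sum.inl (Sum.inr i))) * star (g 1 1) := by
    unfold py
    rw [map_sub, map_add, RingHom.map_mul, RingHom.map_mul, algebraMap_norm_eq_mul_star, algebraMap_norm_eq_mul_star,
      algebraMap_trace_eq_add_star]
    ring
  have e3 : pz i g v = g 0 0 * algebraMap K (EE a b) (v (Sum.inl (Sum.inl i))) * star (g 1 0) +
      g 0 1 * star (cz a b v) * star (g 1 0) + g 0 0 * cz a b v * star (g 1 1) -
      g 0 1 * algebraMap K (EE a b) (v (Sum.inl (Sum.inr i))) * star (g 1 1) := by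
    unfold pz
    rw [Algebra.smul_def, Algebra.smul_def]
    ring
  have s1 : ∀ c : K, star (algebraMap K (EE a b) c) = algebraMap K (EE a b) c := by
    intro c
    ext <;> simp
  ext1 r s
  fin_cases r <;> fin_cases s
  · simp only [mat, linM_inl_inl, if_true, Matrix.mul_apply, Fin.sum_univ_two, Matrix.conjTranspose_apply,
      Matrix.of_apply, Matrix.cons_val', Matrix.cons_val_zero, Matrix.cons_val_one, Matrix.cons_val_fin_one,
      Fin.zero_eta, Fin.isValue, e1, star_mul, star_star]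
    ring
  · simp only [mat, cz_linM, Matrix.mul_apply, Fin.sum_univ_two, Matrix.conjTranspose_apply,
      Matrix.of_apply, Matrix.cons_val', Matrix.cons_val_zero, Matrix.cons_val_one, Matrix.cons_val_fin_one,
      Fin.zero_eta, Fin.mk_one, Fin.isValue, e3]
    ring
  · simp only [mat, cz_linM, Matrix.mul_apply, Fin.sum_univ_two, Matrix.conjTranspose_apply,
      Matrix.of_apply, Matrix.cons_val', Matrix.cons_val_zero, Matrix.cons_val_one, Matrix.cons_val_fin_one,
      Fin.zero_eta, Fin.mk_one, Fin.isValue, e3, star_sub, star_add, star_mul, star_star, s1]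
    ring
  · simp only [mat, linM_inl_inr, if_true, Matrix.mul_apply, Fin.sum_univ_two, Matrix.conjTranspose_apply,
      Matrix.of_apply, Matrix.cons_val', Matrix.cons_val_zero, Matrix.cons_val_one, Matrix.cons_val_fin_one,
      Fin.mk_one, Fin.isValue, map_neg, _root_.neg_neg, e2, star_mul, star_star]
    ring

theorem eq_of_mat {i : Fin m} {v w : (Fin m ⊕ Fin m) ⊕ Fin 2 → K} (h : mat a b i v = mat a b i w)
    (h1 : ∀ k, k ≠ i → v (Sum.inl (Sum.inl k)) = w (Sum.inl (Sum.inl k)))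
    (h2 : ∀ k, k ≠ i → v (Sum.inl (Sum.inr k)) = w (Sum.inl (Sum.inr k))) : v = w := by
  have e1 : v (Sum.inl (Sum.inl i)) = w (Sum.inl (Sum.inl i)) := by
    have := congrFun (congrFun h 0) 0
    exact algebraMap_injective this
  have e2 : v (Sum.inl (Sum.inr i)) = w (Sum.inl (Sum.inr i)) := by
    have := congrFun (congrFun h 1) 1
    exact algebraMap_injective (neg_injective this)
  have e3 : cz a b v = cz a b w := congrFun (congrFun h 0) 1
  funext s
  rcases s with (k | k) | s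
  · by_cases hk : k = i
    · rw [hk, e1]
    · exact h1 k hk
  · by_cases hk : k = i
    · rw [hk, e2]
    · exact h2 k hk
  · fin_cases s
    · exact congrArg QuadraticAlgebra.re e3
    · exact congrArg QuadraticAlgebra.im e3

theorem linM_mul (i : Fin m) (g k : Matrix (Fin 2) (Fin 2) (EE a b)) (v : (Fin m ⊕ Fin m) ⊕ Fin 2 → K) :
    linM i g (linM i k v) = linM i (g * k) v := by
  refine eq_of_mat (a := a) (b := b) (i := i) ?_ (fun j hj => ?_) (fun j hj => ?_)
  · rw [mat_linM, mat_linM, mat_linM, Matrix.conjTranspose_mul]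
    simp only [Matrix.mul_assoc]
  · simp only [linM_inl_inl, if_neg hj]
  · simp only [linM_inl_inr, if_neg hj]

theorem linM_one (i : Fin m) (v : (Fin m ⊕ Fin m) ⊕ Fin 2 → K) :
    linM i (1 : Matrix (Fin 2) (Fin 2) (EE a b)) v = v := by
  refine eq_of_mat (a := a) (b := b) (i := i) ?_ (fun j hj => ?_) (fun j hj => ?_)
  · rw [mat_linM, Matrix.conjTranspose_one, Matrix.one_mul, Matrix.mul_one]
  · simp only [linM_inl_inl, if_neg hj]
  · simp only [linM_inl_inr, if_neg hj]

/-- **`SL_2(E)` on the last hyperbolic plane and the anisotropic part.** -/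
def phiM (i : Fin m) : SL(2, EE a b) →* (((Fin m ⊕ Fin m) ⊕ Fin 2 → K) ≃ₗ[K] ((Fin m ⊕ Fin m) ⊕ Fin 2 → K)) where
  toFun g := LinearEquiv.ofLinearMap (linM i g.1) (linM i (g⁻¹).1)
    (by
      ext1 v
      ext1
      show linM i g.1 (linM i (g⁻¹).1 _) = _
      rw [linM_mul, ← Matrix.SpecialLinearGroup.coe_mul, mul_inv_cancel]
      exact linM_one i _)
    (by
      ext1 v
      ext1
      show linM i (g⁻¹).1 (linM i g.1 _) = _
      rw [linM_mul, ← Matrix.SpecialLinearGroup.coe_mul, inv_mul_cancel]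
      exact linM_one i _)
  map_one' := by
    ext1 v
    exact linM_one i v
  map_mul' g k := by
    ext1 v
    exact (linM_mul i g.1 k.1 v).symm

theorem phiM_apply (i : Fin m) (g : SL(2, EE a b)) (v : (Fin m ⊕ Fin m) ⊕ Fin 2 → K) :
    phiM i g v = linM i g.1 v := rfl

variable (hab : ∀ z₁ z₂ : K, z₁ ^ 2 + a * z₁ * z₂ + b * z₂ ^ 2 = 0 → z₁ = 0 ∧ z₂ = 0)

theorem h_e (i : Fin m) (v : (Fin m ⊕ Fin m) ⊕ Fin 2 → K) :
    (HO (minusForm m K a b)).h v ((wminus m K a b hab).e i) = v (Sum.inl (Sum.inr i)) := by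
  rw [HO_h, polar_minusForm]
  simp [wminus, Pi.single_apply]

theorem h_f (i : Fin m) (v : (Fin m ⊕ Fin m) ⊕ Fin 2 → K) :
    (HO (minusForm m K a b)).h v ((wminus m K a b hab).f i) = v (Sum.inl (Sum.inl i)) := by
  rw [HO_h, polar_minusForm]
  simp [wminus, Pi.single_apply]

theorem h_w {w : (Fin m ⊕ Fin m) ⊕ Fin 2 → K} (hw : ∀ j, w (Sum.inl j) = 0) (v : (Fin m ⊕ Fin m) ⊕ Fin 2 → K) :
    (HO (minusForm m K a b)).h v w = trace (cz a b v * star (cz a b w)) := by
  rw [HO_h, polar_minusForm, trace_def]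
  simp [cz, hw]
  ring

theorem q_w {w : (Fin m ⊕ Fin m) ⊕ Fin 2 → K} (hw : ∀ j, w (Sum.inl j) = 0) :
    minusForm m K a b w = norm (cz a b w) := by
  rw [coe_minusForm, quadFormMinus_apply, norm_def]
  simp [cz, hw]
  ring

/-- the vector of the anisotropic part -/
def ia (t : EE a b) : (Fin m ⊕ Fin m) ⊕ Fin 2 → K := Sum.elim (fun _ => 0) ![t.re, t.im]

theorem cz_ia (t : EE a b) : cz a b (ia t : (Fin m ⊕ Fin m) ⊕ Fin 2 → K) = t := rfl

theorem ia_inl (t : EE a b) (j : Fin m ⊕ Fin m) : (ia t : (Fin m ⊕ Fin m) ⊕ Fin 2 → K) (Sum.inl j) = 0 := rfl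

/-- the admissible pair -/
def adm (t : EE a b) : (toFrame (wminus m K a b hab)).Adm :=
  ⟨ia t, -minusForm m K a b (ia t), fun j => ia_inl t j, rfl⟩

theorem ext_v {v w : (Fin m ⊕ Fin m) ⊕ Fin 2 → K} (h1 : ∀ k, v (Sum.inl (Sum.inl k)) = w (Sum.inl (Sum.inl k)))
    (h2 : ∀ k, v (Sum.inl (Sum.inr k)) = w (Sum.inl (Sum.inr k))) (h3 : cz a b v = cz a b w) : v = w := by
  funext s
  rcases s with (k | k) | s
  · exact h1 k
  · exact h2 k
  · fin_cases s
    · exact congrArg QuadraticAlgebra.re h3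
    · exact congrArg QuadraticAlgebra.im h3

theorem cz_single_inl (j : Fin m ⊕ Fin m) (c : K) : cz a b (Pi.single (Sum.inl j) c) = 0 := by
  ext <;> simp [cz]

theorem cz_aux (v w : (Fin m ⊕ Fin m) ⊕ Fin 2 → K) (c x y : K) (j : Fin m ⊕ Fin m) :
    cz a b (v + c • w - x • Pi.single (Sum.inl j) 1 + y • Pi.single (Sum.inl j) 1) = cz a b v + c • cz a b w := by
  rw [cz_add, sub_eq_add_neg, cz_add, cz_add, ← neg_smul, cz_smul, cz_smul, cz_smul, cz_single_inl, smul_zero,
    smul_zero, add_zero, add_zero]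

/-- the transformation of the root `(i, true)` -/
theorem Z_true_apply (i : Fin m) (p : (toFrame (wminus m K a b hab)).Adm) (v : (Fin m ⊕ Fin m) ⊕ Fin 2 → K) :
    (toFrame (wminus m K a b hab)).Z (i, true) p v = v + v (Sum.inl (Sum.inr i)) • p.w
      - trace (cz a b v * star (cz a b p.w)) • Pi.single (Sum.inl (Sum.inl i)) 1
      + (-norm (cz a b p.w) * v (Sum.inl (Sum.inr i))) • Pi.single (Sum.inl (Sum.inl i)) 1 := by
  have hw : ∀ j, p.w (Sum.inl j) = 0 := p.ok.1
  have hc : p.c = -minusForm m K a b p.w := p.ok.2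
  have he : (HO (minusForm m K a b)).ε⁻¹ = 1 := inv_one
  rw [Frame.Z, HForm.sie_apply]
  change v + (HO (minusForm m K a b)).h v ((wminus m K a b hab).e i) • p.w -
    ((HO (minusForm m K a b)).ε⁻¹ * (HO (minusForm m K a b)).h v p.w) • (wminus m K a b hab).e i +
    (p.c * (HO (minusForm m K a b)).h v ((wminus m K a b hab).e i)) • (wminus m K a b hab).e i = _
  rw [h_e, h_w hw, hc, q_w hw, he, one_mul]
  rfl

/-- the transformation of the root `(i, false)` -/
theorem Z_false_apply (i : Fin m) (p : (toFrame (wminus m K a b hab)).Adm) (v : (Fin m ⊕ Fin m) ⊕ Fin 2 → K) :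
    (toFrame (wminus m K a b hab)).Z (i, false) p v = v + v (Sum.inl (Sum.inl i)) • p.w
      - trace (cz a b v * star (cz a b p.w)) • Pi.single (Sum.inl (Sum.inr i)) 1
      + (-norm (cz a b p.w) * v (Sum.inl (Sum.inl i))) • Pi.single (Sum.inl (Sum.inr i)) 1 := by
  have hw : ∀ j, p.w (Sum.inl j) = 0 := p.ok.1
  have hc : p.c = -minusForm m K a b p.w := p.ok.2
  have he : (HO (minusForm m K a b)).ε⁻¹ = 1 := inv_one
  rw [Frame.Z, HForm.sie_apply]
  change v + (HO (minusForm m K a b)).h v ((wminus m K a b hab).f i) • p.w -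
    ((HO (minusForm m K a b)).ε⁻¹ * (HO (minusForm m K a b)).h v p.w) • (wminus m K a b hab).f i +
    (p.c * (HO (minusForm m K a b)).h v ((wminus m K a b hab).f i)) • (wminus m K a b hab).f i = _
  rw [h_f, h_w hw, hc, q_w hw, he, one_mul]
  rfl

variable [Hab : Fact (∀ r, r ^ 2 ≠ -b + a * r)]

open Cfsg.Agent.H911.SLTwo in
theorem phiM_up (i : Fin m) (t : EE a b) (p : (toFrame (wminus m K a b hab)).Adm) (hp : cz a b p.w = -t) :
    phiM i (U (K := EE a b) t) = (toFrame (wminus m K a b hab)).Z (i, true) p := by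
  have hw : ∀ j, p.w (Sum.inl j) = 0 := p.ok.1
  ext1 v
  rw [Z_true_apply, phiM_apply, hp]
  refine ext_v (a := a) (b := b) (fun k => ?_) (fun k => ?_) ?_
  · rw [linM_inl_inl]
    simp only [Pi.add_apply, Pi.sub_apply, Pi.smul_apply, hw, smul_eq_mul, mul_zero, add_zero]
    split_ifs with hk
    · subst hk
      rw [Pi.single_eq_same]
      simp only [px, U00, U01, map_one, one_mul, star_neg, mul_neg, map_neg, QuadraticAlgebra.norm_neg]
      ring
    · rw [Pi.single_eq_of_ne (by simpa using hk)]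
      ring
  · rw [linM_inl_inr]
    simp only [Pi.add_apply, Pi.sub_apply, Pi.smul_apply, hw, smul_eq_mul, mul_zero, add_zero]
    rw [Pi.single_eq_of_ne (by simp)]
    split_ifs with hk
    · subst hk
      simp only [py, U10, U11, map_zero, map_one, zero_mul, one_mul, QuadraticAlgebra.norm_zero]
      ring
    · ring
  · rw [cz_linM]
    rw [cz_aux, hp]
    simp only [pz, U00, U01, U10, U11, star_zero, star_one, mul_zero, mul_one, smul_zero, one_mul, zero_add, smul_neg]
    ring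

open Cfsg.Agent.H911.SLTwo in
theorem phiM_lo (i : Fin m) (t : EE a b) (p : (toFrame (wminus m K a b hab)).Adm) (hp : cz a b p.w = star t) :
    phiM i (Lo (K := EE a b) t) = (toFrame (wminus m K a b hab)).Z (i, false) p := by
  have hw : ∀ j, p.w (Sum.inl j) = 0 := p.ok.1
  ext1 v
  rw [Z_false_apply, phiM_apply, hp]
  refine ext_v (a := a) (b := b) (fun k => ?_) (fun k => ?_) ?_
  · rw [linM_inl_inl]
    simp only [Pi.add_apply, Pi.sub_apply, Pi.smul_apply, hw, smul_eq_mul, mul_zero, add_zero]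
    rw [Pi.single_eq_of_ne (by simp)]
    split_ifs with hk
    · subst hk
      simp only [px, Lo00, Lo01, map_zero, map_one, star_zero, mul_zero, zero_mul, one_mul, QuadraticAlgebra.norm_zero]
      ring
    · ring
  · rw [linM_inl_inr]
    simp only [Pi.add_apply, Pi.sub_apply, Pi.smul_apply, hw, smul_eq_mul, mul_zero, add_zero]
    split_ifs with hk
    · subst hk
      rw [Pi.single_eq_same]
      simp only [py, Lo10, Lo11, map_one, one_mul, star_one, mul_one, star_star, QuadraticAlgebra.norm_star]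
      rw [mul_comm t]
      ring
    · rw [Pi.single_eq_of_ne (by simpa using hk)]
      ring
  · rw [cz_linM]
    rw [cz_aux, hp]
    simp only [pz, Lo00, Lo01, Lo10, Lo11, star_one, mul_one, zero_mul, smul_zero, one_mul, sub_zero]
    ring

open Cfsg.Agent.H911.SLTwo in
/-- the action of the torus -/
theorem phiM_hh_apply (i : Fin m) (s : (EE a b)ˣ) (v : (Fin m ⊕ Fin m) ⊕ Fin 2 → K) :
    (∀ k, phiM i (hh (K := EE a b) s) v (Sum.inl (Sum.inl k)) =
      (if k = i then norm (s : EE a b) else 1) * v (Sum.inl (Sum.inl k))) ∧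
    (∀ k, phiM i (hh (K := EE a b) s) v (Sum.inl (Sum.inr k)) =
      (if k = i then norm ((s⁻¹ : (EE a b)ˣ) : EE a b) else 1) * v (Sum.inl (Sum.inr k))) ∧
    cz a b (phiM i (hh (K := EE a b) s) v) = (s : EE a b) * star ((s⁻¹ : (EE a b)ˣ) : EE a b) * cz a b v := by
  refine ⟨fun k => ?_, fun k => ?_, ?_⟩
  · rw [phiM_apply, linM_inl_inl]
    split_ifs with hk
    · subst hk
      simp only [px, hh00, hh01, star_zero, mul_zero, map_zero, QuadraticAlgebra.norm_zero, zero_mul, add_zero,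
        sub_zero]
    · rw [one_mul]
  · rw [phiM_apply, linM_inl_inr]
    split_ifs with hk
    · subst hk
      simp only [py, hh10, hh11, zero_mul, map_zero, QuadraticAlgebra.norm_zero, add_zero, zero_sub, _root_.neg_neg]
    · rw [one_mul]
  · rw [phiM_apply, cz_linM]
    simp only [pz, hh00, hh01, hh10, hh11, star_zero, mul_zero, zero_mul, smul_zero, add_zero, zero_add, sub_zero]
    ring

/-! ### diagonal elements -/

/-- diagonal elements -/
def Dg (a b : K) (g : ((Fin m ⊕ Fin m) ⊕ Fin 2 → K) ≃ₗ[K] ((Fin m ⊕ Fin m) ⊕ Fin 2 → K)) : Prop :=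
  ∃ (l r : Fin m → K) (u : EE a b), ∀ v, (∀ k, g v (Sum.inl (Sum.inl k)) = l k * v (Sum.inl (Sum.inl k))) ∧
    (∀ k, g v (Sum.inl (Sum.inr k)) = r k * v (Sum.inl (Sum.inr k))) ∧ cz a b (g v) = u * cz a b v

omit Hab in
theorem Dg.comm {g k : ((Fin m ⊕ Fin m) ⊕ Fin 2 → K) ≃ₗ[K] ((Fin m ⊕ Fin m) ⊕ Fin 2 → K)} (hg : Dg a b g)
    (hk : Dg a b k) : g * k = k * g := by
  obtain ⟨l, r, u, h⟩ := hg
  obtain ⟨l', r', u', h'⟩ := hk
  ext1 v
  change g (k v) = k (g v)
  refine ext_v (a := a) (b := b) (fun j => ?_) (fun j => ?_) ?_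
  · rw [(h _).1, (h' _).1, (h' _).1, (h _).1]; ring
  · rw [(h _).2.1, (h' _).2.1, (h' _).2.1, (h _).2.1]; ring
  · rw [(h _).2.2, (h' _).2.2, (h' _).2.2, (h _).2.2]; ring

open Cfsg.Agent.H911.SLTwo in
theorem dg_phiM (i : Fin m) (s : (EE a b)ˣ) : Dg a b (phiM i (hh (K := EE a b) s)) :=
  ⟨_, _, _, phiM_hh_apply i s⟩

open Cfsg.Agent.H911.SLTwo Cfsg.Agent.H62.FrameSL in
omit Hab in
theorem dg_phiS {i j : Fin m} (hij : i ≠ j) (s : Kˣ) :
    Dg a b (phiS (toFrame (wminus m K a b hab)) hij (hh s)) := by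
  have key : ∀ v, phiS (toFrame (wminus m K a b hab)) hij (hh s) v = v +
      (((s : K) - 1) * v (Sum.inl (Sum.inl i))) • Pi.single (Sum.inl (Sum.inl i)) 1 +
      ((((s⁻¹ : Kˣ) : K) - 1) * v (Sum.inl (Sum.inl j))) • Pi.single (Sum.inl (Sum.inl j)) 1 +
      ((((s⁻¹ : Kˣ) : K) - 1) * v (Sum.inl (Sum.inr i))) • Pi.single (Sum.inl (Sum.inr i)) 1 +
      (((s : K) - 1) * v (Sum.inl (Sum.inr j))) • Pi.single (Sum.inl (Sum.inr j)) 1 := by
    intro v
    rw [phiS_apply, linS_apply]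
    change v + (((hh s).1 0 0 - 1) * (HO (minusForm m K a b)).h v ((wminus m K a b hab).f i) + (hh s).1 0 1 *
        (HO (minusForm m K a b)).h v ((wminus m K a b hab).f j)) • (wminus m K a b hab).e i
      + ((hh s).1 1 0 * (HO (minusForm m K a b)).h v ((wminus m K a b hab).f i) + ((hh s).1 1 1 - 1) *
        (HO (minusForm m K a b)).h v ((wminus m K a b hab).f j)) • (wminus m K a b hab).e j
      + (((hh s).1 1 1 - 1) * ((1 : K)⁻¹ * (HO (minusForm m K a b)).h v ((wminus m K a b hab).e i)) -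
        (hh s).1 1 0 * ((1 : K)⁻¹ * (HO (minusForm m K a b)).h v ((wminus m K a b hab).e j))) •
          (wminus m K a b hab).f i
      + (-(hh s).1 0 1 * ((1 : K)⁻¹ * (HO (minusForm m K a b)).h v ((wminus m K a b hab).e i)) +
        ((hh s).1 0 0 - 1) * ((1 : K)⁻¹ * (HO (minusForm m K a b)).h v ((wminus m K a b hab).e j))) •
          (wminus m K a b hab).f j = _
    simp only [h_e, h_f, hh00, hh01, hh10, hh11, zero_mul, add_zero, zero_add, sub_zero, neg_zero, inv_one, one_mul]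
    rfl
  refine ⟨fun k => if k = i then (s : K) else if k = j then ((s⁻¹ : Kˣ) : K) else 1,
    fun k => if k = i then ((s⁻¹ : Kˣ) : K) else if k = j then (s : K) else 1, 1, fun v => ⟨fun k => ?_, fun k => ?_, ?_⟩⟩
  · rw [key]
    simp only [Pi.add_apply, Pi.smul_apply, smul_eq_mul, Pi.single_apply, Sum.inl.injEq, reduceCtorEq, if_false,
      mul_zero, add_zero]
    by_cases h1 : k = i
    · subst h1
      rw [if_pos rfl, if_neg hij, if_pos rfl]
      ring
    · by_cases h2 : k = j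
      · subst h2
        rw [if_neg h1, if_pos rfl, if_neg h1, if_pos rfl]
        ring
      · rw [if_neg h1, if_neg h2, if_neg h1, if_neg h2]
        ring
  · rw [key]
    simp only [Pi.add_apply, Pi.smul_apply, smul_eq_mul, Pi.single_apply, Sum.inl.injEq, Sum.inr.injEq, reduceCtorEq,
      if_false, mul_zero, add_zero]
    by_cases h1 : k = i
    · subst h1
      rw [if_pos rfl, if_neg hij, if_pos rfl]
      ring
    · by_cases h2 : k = j
      · subst h2
        rw [if_neg h1, if_pos rfl, if_neg h1, if_pos rfl]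
        ring
      · rw [if_neg h1, if_neg h2, if_neg h1, if_neg h2]
        ring
  · rw [key, cz_add, cz_add, cz_add, cz_add, cz_smul, cz_smul, cz_smul, cz_smul, cz_single_inl, cz_single_inl,
      cz_single_inl, cz_single_inl, smul_zero, smul_zero, smul_zero, smul_zero, add_zero, add_zero, add_zero, add_zero,
      one_mul]

omit Hab in
theorem Dg.mono {g : ((Fin m ⊕ Fin m) ⊕ Fin 2 → K) ≃ₗ[K] ((Fin m ⊕ Fin m) ⊕ Fin 2 → K)} (hg : Dg a b g) :
    WittRoot.Mono (toFrame (wminus m K a b hab)) g id := by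
  obtain ⟨l, r, u, h⟩ := hg
  have key : ∀ x, ∃ c : K, g ((toFrame (wminus m K a b hab)).b x) = c • (toFrame (wminus m K a b hab)).b x := by
    rintro ⟨k, s⟩
    cases s
    · refine ⟨r k, ?_⟩
      change g (Pi.single (Sum.inl (Sum.inr k)) 1) = r k • (Pi.single (Sum.inl (Sum.inr k)) 1 :
        (Fin m ⊕ Fin m) ⊕ Fin 2 → K)
      refine ext_v (a := a) (b := b) (fun j => ?_) (fun j => ?_) ?_
      · rw [(h _).1, Pi.smul_apply, Pi.single_eq_of_ne (by simp), smul_zero, mul_zero]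
      · rw [(h _).2.1, Pi.smul_apply, smul_eq_mul]
        by_cases hj : j = k
        · subst hj; rfl
        · rw [Pi.single_eq_of_ne (by simpa using hj), mul_zero, mul_zero]
      · rw [(h _).2.2, cz_smul, cz_single_inl, mul_zero, smul_zero]
    · refine ⟨l k, ?_⟩
      change g (Pi.single (Sum.inl (Sum.inl k)) 1) = l k • (Pi.single (Sum.inl (Sum.inl k)) 1 :
        (Fin m ⊕ Fin m) ⊕ Fin 2 → K)
      refine ext_v (a := a) (b := b) (fun j => ?_) (fun j => ?_) ?_
      · rw [(h _).1, Pi.smul_apply, smul_eq_mul]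
        by_cases hj : j = k
        · subst hj; rfl
        · rw [Pi.single_eq_of_ne (by simpa using hj), mul_zero, mul_zero]
      · rw [(h _).2.1, Pi.smul_apply, Pi.single_eq_of_ne (by simp), smul_zero, mul_zero]
      · rw [(h _).2.2, cz_smul, cz_single_inl, mul_zero, smul_zero]
  intro x
  obtain ⟨c, hc⟩ := key x
  refine ⟨c, ?_, hc⟩
  rintro rfl
  rw [zero_smul] at hc
  have h1 : (toFrame (wminus m K a b hab)).b x = 0 := g.injective (hc.trans (map_zero g).symm)
  exact WittRGD.b_ne_zero x h1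

open Cfsg.Agent.H911.SLTwo in
omit Hab in
theorem exists_ndD {G0 : Subgroup (((Fin m ⊕ Fin m) ⊕ Fin 2 → K) ≃ₗ[K] ((Fin m ⊕ Fin m) ⊕ Fin 2 → K))}
    (hle : ∀ x, WittRoot.rg (toFrame (wminus m K a b hab)) x ≤ G0) {i : Fin m} {E : Type} [Field E]
    (φ : SL(2, E) →* (((Fin m ⊕ Fin m) ⊕ Fin 2 → K) ≃ₗ[K] ((Fin m ⊕ Fin m) ⊕ Fin 2 → K)))
    (hu : ∀ y, y ∈ WittRoot.rg (toFrame (wminus m K a b hab)) (sr i) ↔ ∃ t, φ (U t) = y)
    (hl : ∀ y, y ∈ WittRoot.rg (toFrame (wminus m K a b hab)) (-sr i) ↔ ∃ t, φ (Lo t) = y)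
    (hd : ∀ s, Dg a b (φ (hh s))) :
    ∃ σ : SL(2, E) →* G0, (∀ s, Dg a b (σ (hh s)).1) ∧
      Nd ((Tor (toFrame (wminus m K a b hab)) G0).subgroupOf G0)
        (fun x => (WittRoot.rg (toFrame (wminus m K a b hab)) x).subgroupOf G0) i σ := by
  obtain ⟨σ, h1, h2⟩ := exists_nd hle (i := i) φ hu hl fun s => (hd s).mono hab
  exact ⟨σ, fun s => by rw [h1]; exact hd s, h2⟩

open Cfsg.Agent.H911.SLTwo in
theorem exists_last [Finite K] {G0 : Subgroup (((Fin m ⊕ Fin m) ⊕ Fin 2 → K) ≃ₗ[K] ((Fin m ⊕ Fin m) ⊕ Fin 2 → K))}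
    (hle : ∀ x, WittRoot.rg (toFrame (wminus m K a b hab)) x ≤ G0) {i : Fin m} (hi : ¬ (i : ℕ) + 1 < m) :
    ∃ (E : Type) (_ : Field E) (σ : SL(2, E) →* G0), Nat.card E = Nat.card K ^ 2 ∧ (∀ s, Dg a b (σ (hh s)).1) ∧
      Nd ((Tor (toFrame (wminus m K a b hab)) G0).subgroupOf G0)
        (fun x => (WittRoot.rg (toFrame (wminus m K a b hab)) x).subgroupOf G0) i σ := by
  have hu : ∀ y, y ∈ WittRoot.rg (toFrame (wminus m K a b hab)) (sr i) ↔ ∃ t, phiM i (U (K := EE a b) t) = y := by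
    intro y
    rw [rg_sr, H61.SUNode.nx_of_not hi, PG_self]
    constructor
    · rintro ⟨p, rfl⟩
      exact ⟨-cz a b p.w, phiM_up hab i _ p (by rw [_root_.neg_neg])⟩
    · rintro ⟨t, rfl⟩
      exact ⟨adm hab (-t), phiM_up hab i _ _ (cz_ia _)⟩
  have hl : ∀ y, y ∈ WittRoot.rg (toFrame (wminus m K a b hab)) (-sr i) ↔
      ∃ t, phiM i (Lo (K := EE a b) t) = y := by
    intro y
    rw [rg_neg_sr, H61.SUNode.nx_of_not hi, PG_self]
    constructor
    · rintro ⟨p, rfl⟩
      exact ⟨star (cz a b p.w), phiM_lo hab i _ p (by rw [star_star])⟩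
    · rintro ⟨t, rfl⟩
      exact ⟨adm hab (star t), phiM_lo hab i _ _ (cz_ia _)⟩
  have hc : Nat.card (EE a b) = Nat.card K ^ 2 := by
    rw [Nat.card_congr (QuadraticAlgebra.equivProd (-b) a), Nat.card_prod, _root_.sq]
  obtain ⟨σ, h1, h2⟩ := exists_ndD hab hle (i := i) (E := EE a b) (phiM i) hu hl (fun s => dg_phiM i s)
  exact ⟨EE a b, inferInstance, σ, hc, h1, h2⟩

open Cfsg.Agent.H911.SLTwo Cfsg.Agent.H62.FrameSL in
omit Hab in
theorem exists_long {G0 : Subgroup (((Fin m ⊕ Fin m) ⊕ Fin 2 → K) ≃ₗ[K] ((Fin m ⊕ Fin m) ⊕ Fin 2 → K))}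
    (hle : ∀ x, WittRoot.rg (toFrame (wminus m K a b hab)) x ≤ G0) {i : Fin m} (hi : (i : ℕ) + 1 < m) :
    ∃ σ : SL(2, K) →* G0, (∀ s, Dg a b (σ (hh s)).1) ∧
      Nd ((Tor (toFrame (wminus m K a b hab)) G0).subgroupOf G0)
        (fun x => (WittRoot.rg (toFrame (wminus m K a b hab)) x).subgroupOf G0) i σ := by
  have hij : i ≠ ⟨i + 1, hi⟩ := by
    intro e
    have := congrArg Fin.val e
    simp only at this
    omega
  set Fr := toFrame (wminus m K a b hab) with hFr
  have hu : ∀ y, y ∈ WittRoot.rg Fr (sr i) ↔ ∃ t, phiS Fr hij (U t) = y := by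
    intro y
    rw [rg_sr, PG_ne Fr (H61.SUNode.ne_nx hi), H61.SUNode.nx_of_lt hi, mem_XG]
    exact exists_congr fun t => eq_comm.trans (iff_of_eq (congrArg (· = y) (phiS_up Fr hij t).symm))
  have hl : ∀ y, y ∈ WittRoot.rg Fr (-sr i) ↔ ∃ t, phiS Fr hij (Lo t) = y := by
    intro y
    rw [rg_neg_sr, PG_ne Fr (a := TypeC.ng (i, true)) (b := TypeC.ng (TypeC.nx i)) (H61.SUNode.ne_nx hi),
      XG_swap Fr (a := TypeC.ng (i, true)) (b := TypeC.ng (TypeC.nx i)) (H61.SUNode.ne_nx hi),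
      H61.SUNode.nx_of_lt hi, mem_XG]
    exact exists_congr fun t => eq_comm.trans (iff_of_eq (congrArg (· = y) (phiS_lo Fr hij t).symm))
  obtain ⟨σ, h1, h2⟩ := exists_nd hle (phiS Fr hij) hu hl (phiS_hh hij)
  exact ⟨σ, fun s => by rw [h1]; exact dg_phiS hab hij s, h2⟩

end lin

end Minus

end Cfsg.Agent.H948.Ppd
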