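import Cfsg.Agent.H948.Ppd.EdgeB
import Cfsg.Agent.H948.Ppd.NdMinus
import Cfsg.Agent.H925.NatMain

/-!
# Orthogonal groups of minus type: the setting (helper948)

* `good_minus`, `pM`, `pc_ne`, `ambT_minus`, `MM` : the model of `PΩ⁻_{2m+2}(K)`;
* `node_long`, `node_last`, `nodes` : `SL_2` at the nodes; `torus_comm_minus` : the torus is commutative.

-/

set_option autoImplicit false
set_option linter.unusedSectionVars false
set_option linter.style.haveILetI false

namespace Cfsg.Agent.H948.Ppd.Minus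

open QuadraticMap
open CoxeterSystem Cfsg.Agent.ChevalleyStructure.CoxeterGeom Cfsg.Agent.Tits.Roots Cfsg.Agent.Tits.Core
  Cfsg.Agent.Nodes.Reps Cfsg.Agent.Nodes.BNOf Cfsg.Agent.Nodes.Bruhat Cfsg.Agent.Nodes.RGDLib
open Cfsg.Agent.Nodes Cfsg.Agent.Nodes.WittRoot Cfsg.Agent.Nodes.WittRGD Cfsg.Agent.Nodes.WittAll Cfsg.Agent.Nodes.WittInst
open Cfsg.Agent.Nodes.TypeC (isCartan)
open Cfsg.Agent.TitsThree.Siegel Cfsg.Agent.TitsThree.SiegelGen Cfsg.Agent.TitsThree.WittFrame Cfsg.Agent.TitsThree.FrameCN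
  Cfsg.Agent.TitsThree.WBridge Cfsg.Agent.TitsThree.KSideO Cfsg.Agent.TitsThree Cfsg.Agent.TitsThree.StdData
open Cfsg.Agent.LieClassical Cfsg.Agent.LieClassical.OrthCore Cfsg.Agent.LieClassical.OrthTrans
open Cfsg.Agent.LieClassical.OrthSimple Cfsg.Agent.LieClassical.OrthFinite Cfsg.Agent.LieClassical.OrthForms
open Cfsg.Agent.H915.LD Cfsg.Agent.H911 Cfsg.Agent.H905.Md Cfsg.Agent.H925.Nat Cfsg.Agent.Nodes.RGDLift
open Cfsg.Agent.H911.SLTwo
open Cfsg Cfsg.Geo
open scoped MatrixGroups Matrix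

section base

variable {K : Type} [Field K] {a b : K} {m : ℕ}
  (hab : ∀ z₁ z₂ : K, z₁ ^ 2 + a * z₁ * z₂ + b * z₂ ^ 2 = 0 → z₁ = 0 ∧ z₂ = 0)

include hab in
theorem good_minus [Finite K] (hm : 2 ≤ m) : Good (minusForm m K a b) := by
  apply good_of_finite (nondeg_minusForm m K a b hab)
  rw [Module.finrank_fintype_fun_eq_card, Fintype.card_sum, Fintype.card_sum, Fintype.card_fin,
    Fintype.card_fin]
  omega

/-- an admissible pair -/
noncomputable abbrev pM : (toFrame (wminus m K a b hab)).Adm := (embMinus m K a b hab).ngt ⟨(1, 0), -nf a b (1, 0), rfl⟩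

theorem pc_ne : (pM (m := m) hab).c ≠ 0 := by
  change (1 : K)⁻¹ * (-nf a b (1, 0)) ≠ 0
  simp [nf]

/-- the model -/
noncomputable abbrev MM (hG : Good (minusForm m K a b)) : Model (toFrame (wminus m K a b hab))
    (Cfsg.POmega K ⇑(minusForm m K a b)) := model (wminus m K a b hab) hG ⟨_, pc_ne hab⟩

theorem ambT_minus [Finite K] (p : ℕ) [Fact p.Prime] [CharP K p] (hm : 2 ≤ m) (hG : Good (minusForm m K a b)) :
    AmbT (toFrame (wminus m K a b hab)) p (MM hab hG).I := by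
  change AmbT (toFrame (wminus m K a b hab)) p (E (minusForm m K a b))
  by_cases h2 : (2 : K) = 0
  · have hp2 : p = 2 := by
      have h3 : CharP K 2 := CharTwo.of_one_ne_zero_of_two_eq_zero one_ne_zero h2
      exact CharP.eq K ‹CharP K p› h3
    subst hp2
    exact ambT_O _ fun g hg hg2 hb => fixp_minus a b hab h2 hm hG hg hg2 hb
  · exact AmbT.of_amb (amb_O_of_two _ h2) p

theorem charP_of_card {E : Type*} [Field E] [Finite E] {p n : ℕ} [hp : Fact p.Prime] (h : Nat.card E = p ^ n) :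
    CharP E p := by
  have := Fintype.ofFinite E
  obtain ⟨r, hr⟩ := CharP.exists E
  have hrp : Fact r.Prime := ⟨CharP.char_is_prime E r⟩
  obtain ⟨e, -, he⟩ := FiniteField.card E r
  rw [← Nat.card_eq_fintype_card, h] at he
  have h1 : r ∣ p ^ n := by
    rw [he]
    exact dvd_pow_self r e.ne_zero
  have h2 := (Nat.prime_dvd_prime_iff_eq hrp.out hp.out).1 (hrp.out.dvd_of_dvd_pow h1)
  rwa [← h2]

variable (hG : Good (minusForm m K a b)) {p : ℕ}

theorem node_long (hA : AmbT (toFrame (wminus m K a b hab)) p (MM hab hG).I) {i : Fin m} (hi : (i : ℕ) + 1 < m) :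
    ∃ σ' : SL(2, K) →* (MM hab hG).I, (∀ s, Dg a b (σ' (hh s)).1) ∧ Nd (TB (MM hab hG)) (XB (MM hab hG)) i σ' :=
  exists_long hab hA.rg_le hi

theorem node_last [Finite K] [Fact p.Prime] [CharP K p] (hA : AmbT (toFrame (wminus m K a b hab)) p (MM hab hG).I)
    {i : Fin m} (hi : (i : ℕ) + 1 = m) :
    ∃ (E : Type) (_ : Field E) (_ : Finite E) (_ : CharP E p) (σ' : SL(2, E) →* (MM hab hG).I),
      Nat.card E = Nat.card K ^ 2 ∧ (∀ s, Dg a b (σ' (hh s)).1) ∧ Nd (TB (MM hab hG)) (XB (MM hab hG)) i σ' := by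
  have hf : Fact (∀ r : K, r ^ 2 ≠ -b + a * r) := ⟨fun r hr => by
    have h1 := hab (-r) 1 (by rw [neg_sq, hr]; ring)
    exact one_ne_zero h1.2⟩
  obtain ⟨E, i1, σ', h1, h2, h3⟩ := exists_last hab hA.rg_le (i := i) (by omega)
  have hE : Finite E := by
    apply Nat.finite_of_card_ne_zero
    rw [h1]
    exact pow_ne_zero _ Nat.card_pos.ne'
  have := Fintype.ofFinite K
  obtain ⟨e, -, he⟩ := FiniteField.card K p
  rw [← Nat.card_eq_fintype_card] at he
  have hc : CharP E p := charP_of_card (n := e * 2) (by rw [h1, he, ← pow_mul])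
  exact ⟨E, i1, hE, hc, σ', h1, h2, h3⟩

theorem nodesD [Finite K] [Fact p.Prime] [CharP K p] (hA : AmbT (toFrame (wminus m K a b hab)) p (MM hab hG).I)
    (i : Fin m) : ∃ (E : Type) (_ : Field E) (_ : Finite E) (_ : CharP E p) (σ' : SL(2, E) →* (MM hab hG).I),
      (∀ x : E, x ^ Nat.card K ^ 2 = x) ∧ (∀ s, Dg a b (σ' (hh s)).1) ∧
        Nd (TB (MM hab hG)) (XB (MM hab hG)) i σ' := by
  by_cases hi : (i : ℕ) + 1 < m
  · obtain ⟨σ', h1, h2⟩ := node_long hab hG hA hi
    have := Fintype.ofFinite K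
    refine ⟨K, inferInstance, inferInstance, inferInstance, σ', fun x => ?_, h1, h2⟩
    rw [Nat.card_eq_fintype_card, _root_.sq, pow_mul, FiniteField.pow_card, FiniteField.pow_card]
  · obtain ⟨E, i1, i2, i3, σ', h1, h2, h3⟩ := node_last hab hG hA (i := i) (by omega)
    have := Fintype.ofFinite E
    refine ⟨E, i1, i2, i3, σ', fun x => ?_, h2, h3⟩
    rw [← h1, Nat.card_eq_fintype_card, FiniteField.pow_card]

theorem nodes [Finite K] [Fact p.Prime] [CharP K p] (hA : AmbT (toFrame (wminus m K a b hab)) p (MM hab hG).I)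
    (i : Fin m) : ∃ (E : Type) (_ : Field E) (_ : Finite E) (_ : CharP E p) (σ' : SL(2, E) →* (MM hab hG).I),
      Nd (TB (MM hab hG)) (XB (MM hab hG)) i σ' ∧ ∀ x : E, x ^ Nat.card K ^ 2 = x := by
  obtain ⟨E, i1, i2, i3, σ', h1, h2, h3⟩ := nodesD hab hG hA i
  exact ⟨E, i1, i2, i3, σ', h3, h1⟩

/-- the torus of `Ω⁻` is commutative -/
theorem torus_comm_minus [Finite K] [Fact p.Prime] [CharP K p] (hm : 0 < m)
    (hA : AmbT (toFrame (wminus m K a b hab)) p (MM hab hG).I) :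
    ∀ s ∈ TB (MM hab hG), ∀ t ∈ TB (MM hab hG), s * t = t * s := by
  have hWf : Finite (CoxeterMatrix.B m).Group := TypeC.finite_W (CoxeterMatrix.B m).toCoxeterSystem
  have := finite_GL (K := K) (ν := (Fin m ⊕ Fin m) ⊕ Fin 2)
  have R := rgdB hA (pc_ne hab) (CoxeterMatrix.B m).toCoxeterSystem
  have hperf : commutator ↥(MM hab hG).I = ⊤ := H911.Five.commutator_top hG.E_perfect
  have hG1 := genB hA hm hperf (CoxeterMatrix.B m).toCoxeterSystem
  have key : ∀ x : (MM hab hG).I, Dg a b x.1 → TB (MM hab hG) ≤ Subgroup.centralizer {x} := by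
    intro x hx
    refine torus_ind.{0, 0} R hG1 fun i => ?_
    obtain ⟨E, i1, i2, i3, σ', h1, h2, h3⟩ := nodesD hab hG hA i
    refine ⟨E, i1, σ', h3, fun s => ?_⟩
    rw [Subgroup.mem_centralizer_singleton_iff]
    exact Subtype.ext (Dg.comm hx (h2 s)).symm
  intro s hs t ht
  have h1 : TB (MM hab hG) ≤ Subgroup.centralizer {t} := by
    refine torus_ind.{0, 0} R hG1 fun i => ?_
    obtain ⟨E, i1, i2, i3, σ', h1, h2, h3⟩ := nodesD hab hG hA i
    refine ⟨E, i1, σ', h3, fun s => ?_⟩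
    rw [Subgroup.mem_centralizer_singleton_iff]
    exact (Subgroup.mem_centralizer_singleton_iff.1 (key _ (h2 s) ht)).symm
  exact Subgroup.mem_centralizer_singleton_iff.1 (h1 hs)

end base

end Cfsg.Agent.H948.Ppd.Minus
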