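import Cfsg.Agent.H911.AdF
import Cfsg.Agent.H156.Ppd.Cover

/-!
# `V^U` and the edges over the field and over its algebraic closure (helper948)

`R : RGD cs h p T n X` in `Y`, `T` commutative, `φ : Y → GL(ι, F)` with absolutely irreducible image.

* `emb` : `F^ι → (F^ac)^ι`; `ac_span` : `V^U` over the closure is spanned by a vector of `V^U` over `F`;
* **`jx_iff`** : the set `J` is the same over `F` and over the closure;
* **`finrank_Le_le`** : `dim_F Le J ≤ dim Le J` over the closure.
-/

set_option autoImplicit false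
set_option linter.unusedSectionVars false

namespace Cfsg.Agent.H948.Ppd

open CoxeterSystem Cfsg.Agent.ChevalleyStructure.CoxeterGeom Cfsg.Agent.Tits.Roots Cfsg.Agent.Tits.Core
  Cfsg.Agent.Tits.Exchange Cfsg.Agent.Nodes.Reps Cfsg.Agent.Nodes.BNOf Cfsg.Agent.Nodes.StabComb
  Cfsg.Agent.Nodes.Bruhat Cfsg.Agent.Nodes.OppDec Cfsg.Agent.Nodes.LeviDec Cfsg.Agent.KFacts.RgdOpp
  Cfsg.Agent.Omega.CR Cfsg.Agent.Omega.FOne.Lift.Sd Cfsg.Agent.H911 Cfsg.Agent.H905.Md
open Cfsg Cfsg.Geo Cfsg.Agent.H915.LD
open Cfsg.Agent.H156.Ppd (lrep)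
open Cfsg.Agent.H911.Ad (ac_map)
open scoped MatrixGroups Matrix

section emb

variable {F : Type*} [Field F] {ι : Type}

/-- the embedding of `F^ι` -/
noncomputable def emb (w : ι → F) : ι → AlgebraicClosure F := fun i => algebraMap F (AlgebraicClosure F) (w i)

theorem emb_injective : Function.Injective (emb (F := F) (ι := ι)) := by
  intro v w hvw
  funext i
  exact (algebraMap F (AlgebraicClosure F)).injective (congrFun hvw i)

theorem emb_zero : emb (0 : ι → F) = 0 := by
  funext i
  exact map_zero _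

theorem emb_add (v w : ι → F) : emb (v + w) = emb v + emb w := by
  funext i
  exact map_add _ _ _

theorem emb_smul (a : F) (w : ι → F) : emb (a • w) = algebraMap F (AlgebraicClosure F) a • emb w := by
  funext i
  exact map_mul _ _ _

theorem emb_mem_span {S : Set (ι → F)} {N : Submodule (AlgebraicClosure F) (ι → AlgebraicClosure F)}
    (hS : ∀ v ∈ S, emb v ∈ N) {v : ι → F} (hv : v ∈ Submodule.span F S) : emb v ∈ N := by
  induction hv using Submodule.span_induction with
  | mem v hv => exact hS v hv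
  | zero => rw [emb_zero]; exact N.zero_mem
  | add v w _ _ hv hw => rw [emb_add]; exact N.add_mem hv hw
  | smul a v _ hv => rw [emb_smul]; exact N.smul_mem _ hv

/-- linearly independent vectors remain so over the closure -/
theorem emb_linearIndependent [Fintype ι] {κ : Type*} [Fintype κ] {v : κ → ι → F} (hv : LinearIndependent F v) :
    LinearIndependent (AlgebraicClosure F) fun k => emb (v k) := by
  classical
  obtain ⟨g, hg⟩ : ∃ g : (ι → F) →ₗ[F] (κ → F), ∀ k, g (v k) = Pi.single k 1 := by
    have h1 : Function.Injective (Fintype.linearCombination F v) := by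
      rw [← LinearMap.ker_eq_bot, LinearMap.ker_eq_bot']
      intro c hc
      rw [Fintype.linearCombination_apply] at hc
      exact funext (Fintype.linearIndependent_iff.1 hv c hc)
    obtain ⟨g, hg⟩ := LinearMap.exists_leftInverse_of_injective _ (LinearMap.ker_eq_bot.2 h1)
    refine ⟨g, fun k => ?_⟩
    have h2 := LinearMap.congr_fun hg (Pi.single k 1)
    rw [LinearMap.comp_apply, Fintype.linearCombination_apply_single, one_smul] at h2
    exact h2
  rw [Fintype.linearIndependent_iff]
  intro c hc k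
  have h1 : ∀ x : ι → F, g x k = ∑ i, x i * g (Pi.single i 1) k := by
    intro x
    conv_lhs => rw [← Finset.univ_sum_single x]
    rw [map_sum, Finset.sum_apply]
    refine Finset.sum_congr rfl fun i _ => ?_
    have h2 : (Pi.single i (x i) : ι → F) = x i • Pi.single i 1 := by
      rw [← Pi.single_smul, smul_eq_mul, mul_one]
    rw [h2, map_smul, Pi.smul_apply, smul_eq_mul]
  have h2 : ∑ i, (∑ l, c l • emb (v l)) i * algebraMap F (AlgebraicClosure F) (g (Pi.single i 1) k) = c k := by
    simp only [Finset.sum_apply, Pi.smul_apply, smul_eq_mul, Finset.sum_mul]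
    rw [Finset.sum_comm]
    have h3 : ∀ l, ∑ i, c l * emb (v l) i * algebraMap F (AlgebraicClosure F) (g (Pi.single i 1) k) =
        c l * algebraMap F (AlgebraicClosure F) (g (v l) k) := by
      intro l
      rw [h1 (v l), map_sum, Finset.mul_sum]
      refine Finset.sum_congr rfl fun i _ => ?_
      rw [map_mul, mul_assoc]
      rfl
    simp only [h3, hg]
    rw [Finset.sum_eq_single k]
    · rw [Pi.single_eq_same, map_one, mul_one]
    · intro l _ hl
      rw [Pi.single_eq_of_ne (Ne.symm hl), map_zero, mul_zero]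
    · intro hh
      exact absurd (Finset.mem_univ _) hh
  rw [hc] at h2
  rw [← h2]
  simp

end emb

section main

variable {I W : Type*} {Y : Type*} [Fintype I] [DecidableEq I] [Group W] [Group Y] {M : CoxeterMatrix I}
  {cs : CoxeterSystem M W} {A : I → I → ℤ} {h : IsCartan M A} {p : ℕ} {T : Subgroup Y} {n : I → Y}
  {X : (I → ℤ) → Subgroup Y} {F : Type*} [Field F] {ι : Type} [Fintype ι] [DecidableEq ι]
  {P : Subgroup (GL ι F)} {φ : Y →* GL ι F}

theorem emb_mem_D {w : ι → F} : emb w ∈ D cs h X (lin (acRep φ)) ↔ w ∈ D cs h X (lrep φ) := by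
  constructor
  · intro hw u hu
    have h1 := hw u hu
    unfold emb at h1
    rw [ac_map] at h1
    exact emb_injective h1
  · intro hw u hu
    unfold emb
    rw [ac_map]
    exact congrArg emb (hw u hu)

theorem emb_mem_Le {J : Set I} {w : ι → F} (hw : w ∈ Le cs h T X (lrep φ) J) :
    emb w ∈ Le cs h T X (lin (acRep φ)) J := by
  unfold Le Sp at hw
  refine emb_mem_span ?_ hw
  rintro _ ⟨g, hg, v, hv, rfl⟩
  refine Submodule.subset_span ⟨g, hg, emb v, emb_mem_D.2 hv, ?_⟩
  unfold emb
  rw [ac_map]
  rfl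

/-- **The edges over the field.** -/
theorem finrank_Le_le (J : Set I) : Module.finrank F (Le cs h T X (lrep φ) J) ≤
    Module.finrank (AlgebraicClosure F) (Le cs h T X (lin (acRep φ)) J) := by
  have b := Module.finBasis F (Le cs h T X (lrep φ) J)
  have h1 : LinearIndependent F fun i => ((b i : Le cs h T X (lrep φ) J) : ι → F) :=
    b.linearIndependent.map' _ (Submodule.ker_subtype _)
  have h2 := emb_linearIndependent h1
  have h3 : LinearIndependent (AlgebraicClosure F)
      fun i => (⟨emb ((b i : Le cs h T X (lrep φ) J) : ι → F), emb_mem_Le (b i).2⟩ :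
        Le cs h T X (lin (acRep φ)) J) := by
    refine LinearIndependent.of_comp (Le cs h T X (lin (acRep φ)) J).subtype ?_
    exact h2
  have h4 := h3.fintype_card_le_finrank
  rwa [Fintype.card_fin] at h4

theorem ac_span (R : RGD cs h p T n X) [Finite Y] [Finite W] [Fact p.Prime] [CharP F p] [Nonempty ι]
    (hG : GG cs h T X = ⊤) (hT : ∀ s ∈ T, ∀ t ∈ T, s * t = t * s) (hφ : φ.range = P)
    (hP : ActsAbsolutelyIrreducibly (matrixSet P)) :
    ∃ w ∈ D cs h X (lrep φ), ∀ v ∈ D cs h X (lin (acRep φ)), ∃ a : AlgebraicClosure F, a • emb w = v := by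
  have hchar : CharP (AlgebraicClosure F) p := charP_of_injective_algebraMap (algebraMap F _).injective p
  have hirrF := H911.Ad.mrep_irr hφ hP hG
  have hirrK := ac_irr R hG hT hφ hP
  obtain ⟨c, hc, hc0⟩ := (Submodule.ne_bot_iff _).1 (simp_fx R (lrep φ) hirrF).ne
  refine ⟨c, hc, fun v hv => ?_⟩
  have h0 : emb c ≠ 0 := fun e => hc0 (emb_injective (e.trans emb_zero.symm))
  have h1 := finrank_D R hirrK hT
  obtain ⟨a, ha⟩ := (finrank_eq_one_iff_of_nonzero' (⟨emb c, emb_mem_D.2 hc⟩ : D cs h X (lin (acRep φ)))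
    (fun e => h0 (congrArg Subtype.val e))).1 h1 ⟨v, hv⟩
  exact ⟨a, congrArg Subtype.val ha⟩

/-- **The set `J` over the field.** -/
theorem jx_iff (R : RGD cs h p T n X) [Finite Y] [Finite W] [Fact p.Prime] [CharP F p] [Nonempty ι]
    (hG : GG cs h T X = ⊤) (hT : ∀ s ∈ T, ∀ t ∈ T, s * t = t * s) (hφ : φ.range = P)
    (hP : ActsAbsolutelyIrreducibly (matrixSet P)) {i : I} :
    i ∈ Jx cs h X (lrep φ) ↔ i ∈ Jx cs h X (lin (acRep φ)) := by
  constructor
  · intro hi x hx v hv
    obtain ⟨w, hw, hsp⟩ := ac_span (cs := cs) (h := h) R hG hT hφ hP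
    obtain ⟨a, rfl⟩ := hsp v hv
    rw [map_smul]
    congr 1
    unfold emb
    rw [ac_map]
    exact congrArg emb (hi x hx w hw)
  · intro hi x hx v hv
    have h1 := hi x hx _ (emb_mem_D.2 hv)
    unfold emb at h1
    rw [ac_map] at h1
    exact emb_injective h1

end main

end Cfsg.Agent.H948.Ppd
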