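import Cfsg.Agent.H905.MdD
import Cfsg.Agent.Nodes.Coroot

/-!
# Vertices and edges of a simple module in the defining characteristic: the general bound (helper948)

`R : RGD cs h p T n X`, `V` simple of type `J`, `i ∉ J`, `N = |W : W_(I - {i})|`.

* `Hi cs i` : a subgroup of `W` whose cosets are the edges of type `i`; `|Hi cs i| ≤ 2 |W_(I - {i})|`;
* `dim_ge_edges` : `N dim V^U + |W : Hi| dim Io ≤ dim V`;
* **`index_mul_Le_le`** : `N dim Le {i} ≤ 2 dim V`.
-/

set_option autoImplicit false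
set_option linter.unusedSectionVars false

namespace Cfsg.Agent.H948.Ppd

open CoxeterSystem Cfsg.Agent.ChevalleyStructure.CoxeterGeom Cfsg.Agent.Tits.Roots Cfsg.Agent.Tits.Core
  Cfsg.Agent.Tits.Exchange Cfsg.Agent.Nodes.Reps Cfsg.Agent.Nodes.BNOf Cfsg.Agent.Nodes.StabComb
  Cfsg.Agent.Nodes.Bruhat Cfsg.Agent.Nodes.OppDec Cfsg.Agent.Nodes.RGDLib Cfsg.Agent.Omega.CR
  Cfsg.Agent.Omega.FOne.Lift.Sd Cfsg.Agent.H905.Md Cfsg.Agent.Nodes.Coroot Cfsg.Agent.Nodes.SubComb

section weyl

variable {I W : Type*} [Fintype I] [DecidableEq I] [Group W] {M : CoxeterMatrix I}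
  {cs : CoxeterSystem M W} {A : I → I → ℤ} {h : IsCartan M A}

theorem WJ_mono {J J' : Set I} (hJ : J ⊆ J') : WJ cs J ≤ WJ cs J' := by
  unfold WJ
  apply Subgroup.closure_mono
  rintro _ ⟨j, hj, rfl⟩
  exact ⟨j, hJ hj, rfl⟩

/-- `w` commutes with the reflection in `α_i` if it maps `α_i` to `±α_i` -/
theorem commute_simple [Finite W] {i : I} {w : W} (hw : rep cs h w (sr i) = sr i ∨ rep cs h w (sr i) = -sr i) :
    w * cs.simple i = cs.simple i * w := by
  have h1 : w * cs.simple i * w⁻¹ = cs.simple i := by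
    apply rep_injective cs h
    have e1 : ∀ x, rep cs h (w * cs.simple i * w⁻¹) x = x - cpr cs h x (rep cs h w (sr i)) • rep cs h w (sr i) :=
      fun x => rep_rfl'_eq cs h w i x
    have e2 : ∀ x, rep cs h (cs.simple i) x = x - cpr cs h x (sr i) • sr i := by
      intro x
      have := rep_rfl'_eq cs h 1 i x
      have h3 : rfl' cs 1 i = cs.simple i := by
        change (1 : W) * cs.simple i * (1 : W)⁻¹ = _
        rw [one_mul, inv_one, mul_one]
      rwa [h3, map_one, Module.End.one_apply] at this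
    refine LinearMap.ext fun x => ?_
    rw [e1, e2]
    rcases hw with hw | hw
    · rw [hw]
    · rw [hw, cpr_neg_right cs h x (isRoot_sr cs h i), neg_smul_neg]
  rw [mul_inv_eq_iff_eq_mul] at h1
  exact h1

variable (cs) in
/-- the stabiliser of the edge of type `i` -/
def Hi (i : I) : Subgroup W where
  carrier := {w | w * cs.simple i = cs.simple i * w ∧ (w ∈ WJ cs ({i}ᶜ : Set I) ∨ w * cs.simple i ∈ WJ cs ({i}ᶜ : Set I))}
  one_mem' := ⟨by rw [one_mul, mul_one], Or.inl (one_mem _)⟩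
  mul_mem' := by
    rintro a b ⟨ha, ha'⟩ ⟨hb, hb'⟩
    refine ⟨by rw [mul_assoc, hb, ← mul_assoc, ha, mul_assoc], ?_⟩
    rcases ha' with ha' | ha' <;> rcases hb' with hb' | hb'
    · exact Or.inl (mul_mem ha' hb')
    · right
      rw [mul_assoc]
      exact mul_mem ha' hb'
    · right
      rw [mul_assoc, hb, ← mul_assoc]
      exact mul_mem ha' hb'
    · left
      have e : a * b = a * cs.simple i * (b * cs.simple i) := by
        rw [hb, ← mul_assoc, mul_assoc a, cs.simple_mul_simple_self, mul_one]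
      rw [e]
      exact mul_mem ha' hb'
  inv_mem' := by
    rintro a ⟨ha, ha'⟩
    have h1 : a⁻¹ * cs.simple i = cs.simple i * a⁻¹ := by
      rw [inv_mul_eq_iff_eq_mul, ← mul_assoc, ha, mul_assoc, mul_inv_cancel, mul_one]
    refine ⟨h1, ?_⟩
    rcases ha' with ha' | ha'
    · exact Or.inl (inv_mem ha')
    · right
      have e : a⁻¹ * cs.simple i = (a * cs.simple i)⁻¹ := by
        rw [_root_.mul_inv_rev, cs.inv_simple, h1]
      rw [e]
      exact inv_mem ha'

theorem card_Hi_le [Finite W] (i : I) : Nat.card (Hi cs i) ≤ 2 * Nat.card (WJ cs ({i}ᶜ : Set I)) := by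
  classical
  let f : Hi cs i → (WJ cs ({i}ᶜ : Set I)) × Bool := fun w =>
    if hw : (w : W) ∈ WJ cs ({i}ᶜ : Set I) then (⟨w, hw⟩, true)
    else (⟨w * cs.simple i, (w.2.2.resolve_left hw)⟩, false)
  have hf : Function.Injective f := by
    intro a b hab
    by_cases ha : (a : W) ∈ WJ cs ({i}ᶜ : Set I) <;> by_cases hb : (b : W) ∈ WJ cs ({i}ᶜ : Set I)
    · simp only [f, dif_pos ha, dif_pos hb] at hab
      exact Subtype.ext (congrArg (fun z => ((z.1 : WJ cs ({i}ᶜ : Set I)) : W)) hab)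
    · simp only [f, dif_pos ha, dif_neg hb] at hab
      exact absurd (congrArg Prod.snd hab) (by simp)
    · simp only [f, dif_neg ha, dif_pos hb] at hab
      exact absurd (congrArg Prod.snd hab) (by simp)
    · simp only [f, dif_neg ha, dif_neg hb] at hab
      have := congrArg (fun z => ((z.1 : WJ cs ({i}ᶜ : Set I)) : W)) hab
      exact Subtype.ext (mul_right_cancel this)
  have h1 := Nat.card_le_card_of_injective f hf
  rw [Nat.card_prod, Nat.card_eq_fintype_card (α := Bool), Fintype.card_bool, mul_comm] at h1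
  exact h1

theorem index_le_two_mul [Finite W] (i : I) : (WJ cs ({i}ᶜ : Set I)).index ≤ 2 * (Hi cs i).index := by
  have h1 := (WJ cs ({i}ᶜ : Set I)).card_mul_index
  have h2 := (Hi cs i).card_mul_index
  have h3 := card_Hi_le (cs := cs) i
  have hpos : 0 < Nat.card (WJ cs ({i}ᶜ : Set I)) := Nat.card_pos
  refine Nat.le_of_mul_le_mul_left ?_ hpos
  calc Nat.card (WJ cs ({i}ᶜ : Set I)) * (WJ cs ({i}ᶜ : Set I)).index = Nat.card (Hi cs i) * (Hi cs i).index := by
        rw [h1, h2]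
    _ ≤ 2 * Nat.card (WJ cs ({i}ᶜ : Set I)) * (Hi cs i).index := Nat.mul_le_mul_right _ h3
    _ = Nat.card (WJ cs ({i}ᶜ : Set I)) * (2 * (Hi cs i).index) := by ring

/-- equal edges of type `i` -/
theorem mem_Hi_of_sameEdge [Finite W] {J : Set I} {i : I} (hi : i ∉ J) {w w' : W} (he : SameEdge cs h J w i w' i) :
    w⁻¹ * w' ∈ Hi cs i := by
  have hJ : J ⊆ ({i}ᶜ : Set I) := fun j hj e => hi (e ▸ hj)
  have key : ∀ {x : I → ℤ}, rep cs h w (sr i) = rep cs h w' x → rep cs h (w⁻¹ * w') x = sr i := by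
    intro x hx
    rw [rep_mul_apply, ← hx, ← rep_mul_apply, inv_mul_cancel, map_one, Module.End.one_apply]
  rcases he with ⟨h1, h2⟩ | ⟨h1, h2⟩
  · exact ⟨commute_simple (Or.inl (key h1)), Or.inl (WJ_mono hJ h2)⟩
  · refine ⟨commute_simple (h := h) (Or.inr ?_), Or.inr ?_⟩
    · have h3 : rep cs h (w⁻¹ * w') (-sr i) = sr i := key (by rw [map_neg]; exact h1)
      rw [map_neg] at h3
      exact neg_eq_iff_eq_neg.1 h3
    · rw [mul_assoc]
      exact WJ_mono hJ h2

end weyl

section dim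

variable {I W Y : Type*} [Fintype I] [DecidableEq I] [Group W] [Group Y] {M : CoxeterMatrix I}
  {cs : CoxeterSystem M W} {A : I → I → ℤ} {h : IsCartan M A} {p : ℕ} {T : Subgroup Y} {n : I → Y}
  {X : (I → ℤ) → Subgroup Y}
  {k V : Type*} [Field k] [AddCommGroup V] [Module k V]
  (R : RGD cs h p T n X) [Finite Y] [Finite W] [Fact p.Prime] [CharP k p]
  {ρ : Y →* Module.End k V} [FiniteDimensional k V] [Nontrivial V]
  (hirr : ∀ L : Submodule k V, Ivt ρ (GG cs h T X) L → L = ⊥ ∨ L = ⊤)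
include R hirr

/-- vertices and edges of type `i` -/
theorem dim_ge_edges {i : I} (hi : i ∉ Jx cs h X ρ) :
    (WJ cs ({i}ᶜ : Set I)).index * Module.finrank k (D cs h X ρ) +
      (Hi cs i).index * Module.finrank k (Io cs h T X ρ i) ≤ Module.finrank k V := by
  have hJ : Jx cs h X ρ ⊆ ({i}ᶜ : Set I) := fun j hj e => hi (e ▸ hj)
  have := Fintype.ofFinite (W ⧸ WJ cs ({i}ᶜ : Set I))
  have := Fintype.ofFinite (W ⧸ Hi cs i)
  have h1 := dim_ge R hirr (α := W ⧸ WJ cs ({i}ᶜ : Set I)) (β := W ⧸ Hi cs i) (fun a => a.out)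
    (fun a a' haa h0 => haa (by
      rw [← QuotientGroup.out_eq' a, ← QuotientGroup.out_eq' a']
      exact (QuotientGroup.eq).2 (WJ_mono hJ h0))) (fun b => b.out) (fun _ => i)
    (fun b b' hbb h0 => hbb (by
      rw [← QuotientGroup.out_eq' b, ← QuotientGroup.out_eq' b']
      exact (QuotientGroup.eq).2 (mem_Hi_of_sameEdge hi h0)))
  rw [Finset.sum_const, Finset.card_univ, smul_eq_mul, ← Nat.card_eq_fintype_card, ← Nat.card_eq_fintype_card] at h1
  exact h1

/-- **`|W : W_(I - {i})| dim Le {i} ≤ 2 dim V`** -/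
theorem index_mul_Le_le {i : I} (hi : i ∉ Jx cs h X ρ) :
    (WJ cs ({i}ᶜ : Set I)).index * Module.finrank k (Le cs h T X ρ {i}) ≤ 2 * Module.finrank k V := by
  have h1 := dim_ge_edges R hirr hi
  have h2 := finrank_Io R hirr (ρ := ρ) i
  have h3 := index_le_two_mul (cs := cs) i
  have h4 : (WJ cs ({i}ᶜ : Set I)).index * Module.finrank k (Le cs h T X ρ {i}) ≤
      (WJ cs ({i}ᶜ : Set I)).index * Module.finrank k (Io cs h T X ρ i) +
        2 * ((WJ cs ({i}ᶜ : Set I)).index * Module.finrank k (D cs h X ρ)) := by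
    refine (Nat.mul_le_mul_left _ h2).trans (le_of_eq ?_)
    ring
  have h5 : (WJ cs ({i}ᶜ : Set I)).index * Module.finrank k (Io cs h T X ρ i) ≤
      2 * ((Hi cs i).index * Module.finrank k (Io cs h T X ρ i)) := by
    rw [← mul_assoc]
    exact Nat.mul_le_mul_right _ h3
  omega

end dim

end Cfsg.Agent.H948.Ppd
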