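import Cfsg.Agent.H948.Ppd.AcF
import Cfsg.Agent.H925.NatFam

/-!
# The covering group and the identification for the models of type `B_n` (helper948)

`M : Model Fr T₀` a model of a Witt frame of rank `n ≥ 2` in `K^ν`, `P ≤ GL(ι, F)` a core, `Soc P ≃ T₀`.

* `TB`, `NB`, `XB` : the torus, the Weyl elements and the root groups in `M.I`; `rgdB`, `genB`;
* **`exists_covB`** : the covering group `f : Y → M.I`, `φ : Y → GL(ι, F)`;
* **`identify_B`** : if `0` is the only node outside `J` and `dim Le {0} ≤ 2` (over the closure) then `P` is the group of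
  isometries `M.I` up to an isomorphism of the fields and a change of the basis.
-/

set_option autoImplicit false
set_option linter.unusedSectionVars false

namespace Cfsg.Agent.H948.Ppd

open CoxeterSystem Cfsg.Agent.ChevalleyStructure.CoxeterGeom Cfsg.Agent.Tits.Roots Cfsg.Agent.Tits.Core
  Cfsg.Agent.Nodes.Reps Cfsg.Agent.Nodes.BNOf Cfsg.Agent.Nodes.Bruhat Cfsg.Agent.Nodes.RGDLib
open Cfsg.Agent.Nodes Cfsg.Agent.Nodes.WittRoot Cfsg.Agent.Nodes.WittRGD Cfsg.Agent.Nodes.WittAll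
open Cfsg.Agent.Nodes.TypeC (isCartan)
open Cfsg.Agent.TitsThree.Siegel Cfsg.Agent.TitsThree.SiegelGen Cfsg.Agent.TitsThree.WittFrame Cfsg.Agent.TitsThree.FrameCN
  Cfsg.Agent.TitsThree.WBridge Cfsg.Agent.TitsThree.KSideO
open Cfsg.Agent.H915.LD Cfsg.Agent.H911 Cfsg.Agent.H905.Md Cfsg.Agent.H925.Nat Cfsg.Agent.Nodes.RGDLift
open Cfsg.Agent.H156.Ppd (Cov lrep exists_cov)
open Cfsg Cfsg.Geo
open scoped MatrixGroups Matrix

universe u v w

section data

variable {K : Type} [Field K] {ν : Type} [Fintype ν] [DecidableEq ν]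
  {H : HForm K (ν → K)} {n : ℕ} {Fr : Frame H (Fin n)} {T₀ : Type v} [Group T₀] (M : Model Fr T₀) {p : ℕ}

/-- the torus -/
abbrev TB : Subgroup M.I := (Tor Fr M.I).subgroupOf M.I

/-- the root groups -/
abbrev XB (x : Fin n → ℤ) : Subgroup M.I := (WittRoot.rg Fr x).subgroupOf M.I

variable {M} (hA : AmbT Fr p M.I) (p0 : Fr.Adm)

/-- the Weyl elements -/
noncomputable abbrev NB (i : Fin n) : M.I := ⟨WittRGD.nn Fr p0 i, WittAll.nn_mem hA p0 i⟩

theorem finite_GL [Finite K] : Finite ((ν → K) ≃ₗ[K] (ν → K)) :=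
  Finite.of_injective (fun g : (ν → K) ≃ₗ[K] (ν → K) => (g : (ν → K) → (ν → K))) DFunLike.coe_injective

theorem rgdB [Finite K] [Fact p.Prime] [CharP K p] {p0 : Fr.Adm} (hp0 : p0.c ≠ 0) {W : Type*} [Group W]
    (cs : CoxeterSystem (CoxeterMatrix.B n) W) :
    RGD cs (isCartan n) p (TB M) (NB hA p0) (XB M) :=
  rgd_restrict (WittAll.rgdC hA hp0 cs) M.I (fun x _ => hA.rg_le x) (fun i => WittAll.nn_mem hA p0 i)

include hA in
theorem genB (hn : 0 < n) (hperf : commutator ↥M.I = ⊤) {W : Type*} [Group W]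
    (cs : CoxeterSystem (CoxeterMatrix.B n) W) : G1 cs (isCartan n) (XB M) = ⊤ :=
  G1_eq_top_of_map hperf (WittAll.ker_le_center M) (WittModel.G1_eq_top M hn _)

end data

section cover

variable {F : Type u} [Field F] [Finite F] {ι : Type} [Fintype ι] [DecidableEq ι] {P : Subgroup (GL ι F)}
  {K : Type} [Field K] [Finite K] {ν : Type} [Fintype ν] [DecidableEq ν]
  {H : HForm K (ν → K)} {n : ℕ} {Fr : Frame H (Fin n)} {T₀ : Type v} [Group T₀] {M : Model Fr T₀} {p : ℕ}
  [Fact p.Prime] [CharP F p] [CharP K p]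

theorem exists_covB (hC : Core P) (hA : AmbT Fr p M.I) {p0 : Fr.Adm} (hp0 : p0.c ≠ 0) (hn : 0 < n)
    (hperf : commutator ↥M.I = ⊤) (e : Soc P ≃* T₀) :
    ∃ (Y : Type u) (_ : Group Y) (_ : Finite Y) (f : Y →* M.I) (φ : Y →* GL ι F) (n₁ : Fin n → Y),
      Cov (CoxeterMatrix.B n).toCoxeterSystem (isCartan n) p (TB M) (NB hA p0) (XB M) P f φ n₁ := by
  have := finite_GL (K := K) (ν := ν)
  have hWf : Finite (CoxeterMatrix.B n).Group := TypeC.finite_W (CoxeterMatrix.B n).toCoxeterSystem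
  exact exists_cov hC (rgdB hA hp0 (CoxeterMatrix.B n).toCoxeterSystem)
    (genB hA hn hperf (CoxeterMatrix.B n).toCoxeterSystem) hperf (model_surjective M hn) e

variable {Y : Type w} [Group Y] [Finite Y] {f : Y →* M.I} {φ : Y →* GL ι F} {n₁ : Fin n → Y}

/-- **The identification, type `B_n`.** -/
theorem identify_B (hC : Core P) (hA : AmbT Fr p M.I) {p0 : Fr.Adm} (hp0 : p0.c ≠ 0) (hn : 2 ≤ n)
    (hsN : Submodule.span K (Set.range (mt M.I)) = ⊤)
    (C : Cov (CoxeterMatrix.B n).toCoxeterSystem (isCartan n) p (TB M) (NB hA p0) (XB M) P f φ n₁)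
    (hT : ∀ s ∈ (TB M).comap f, ∀ t ∈ (TB M).comap f, s * t = t * s) {o : Fin n} (ho : (o : ℕ) = 0)
    (hJ : ∀ i, i ∉ Jx (CoxeterMatrix.B n).toCoxeterSystem (isCartan n) (fun x => lft p f (XB M x))
      (lin (acRep φ)) → i = o)
    (hL : Module.finrank (AlgebraicClosure F) (Le (CoxeterMatrix.B n).toCoxeterSystem (isCartan n) ((TB M).comap f)
      (fun x => lft p f (XB M x)) (lin (acRep φ)) {o}) ≤ 2) :
    ∃ (τ : K ≃+* F) (θ : (ν → F) ≃ₗ[F] (ι → F)), ∀ A : GL ι F,
      A ∈ P ↔ ∃ g : M.I, ∀ v, θ (((mt M.I g).map (τ : K →+* F)) *ᵥ v) = (A : Matrix ι ι F) *ᵥ θ v := by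
  have := finite_GL (K := K) (ν := ν)
  have hWf : Finite (CoxeterMatrix.B n).Group := TypeC.finite_W (CoxeterMatrix.B n).toCoxeterSystem
  have hne := hC.nonempty
  have R := rgdB hA hp0 (CoxeterMatrix.B n).toCoxeterSystem (M := M)
  have hD := C.finrank_D hC hT
  have hirr := C.hirr hC
  have hnV := C.nontriv hC
  have hjx : ∀ i, i ∈ Jx (CoxeterMatrix.B n).toCoxeterSystem (isCartan n) (fun x => lft p f (XB M x)) (lrep φ) ↔
      i ≠ o := by
    intro i
    constructor
    · rintro hi rfl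
      -- all nodes are in `J`
      have hall : ∀ j, j ∈ Jx (CoxeterMatrix.B n).toCoxeterSystem (isCartan n) (fun x => lft p f (XB M x))
          (lrep φ) := by
        intro j
        by_contra hj
        have h1 := hJ j (fun h1 => hj ((jx_iff C.rgd C.hGG hT C.range hC.absIrred).2 h1))
        exact hj (h1 ▸ hi)
      obtain ⟨y, v, hv⟩ := C.hnt hC
      have h1 := D_eq_top C.rgd hirr hall
      have h2 : ∀ x, IsRoot (CoxeterMatrix.B n).toCoxeterSystem (isCartan n) x → lft p f (XB M x) ≤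
          (lrep φ).ker := by
        intro x hx g hg
        rw [MonoidHom.mem_ker]
        refine LinearMap.ext fun v => ?_
        have hv : v ∈ D (CoxeterMatrix.B n).toCoxeterSystem (isCartan n) (fun x => lft p f (XB M x)) (lrep φ) := by
          rw [h1]; trivial
        rcases hx.pos_or_neg with h0 | h0
        · exact hv g (RGD.le_Sup (S := RGD.Pos _ _) ⟨hx, h0⟩ hg)
        · refine X_fix_J C.rgd hirr ?_ hg hv
          exact ⟨hx, fun k hk => absurd (hall k) hk⟩
      apply hv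
      have h3 : G1 (CoxeterMatrix.B n).toCoxeterSystem (isCartan n) (fun x => lft p f (XB M x)) ≤ (lrep φ).ker :=
        RGD.Sup_le fun x hx => h2 x hx
      have h4 : y ∈ (lrep φ).ker := h3 (by rw [C.gen]; trivial)
      rw [MonoidHom.mem_ker] at h4
      rw [h4]
      rfl
    · intro hio
      by_contra hi
      exact hio (hJ i (fun h1 => hi ((jx_iff C.rgd C.hGG hT C.range hC.absIrred).2 h1)))
  obtain ⟨σ, θ, hθ⟩ := C.ident hC hsN (natAt_C hA hp0 (by omega) ho (CoxeterMatrix.B n).toCoxeterSystem)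
    (fixC (by omega) ho (CoxeterMatrix.B n).toCoxeterSystem) (surjC hA hp0 (by omega) ho) R hjx hD
    ((finrank_Le_le _).trans hL)
  obtain ⟨τ, rfl⟩ := ringEquiv_of_surj σ (identify_surj hC hθ)
  exact ⟨τ, θ, hθ⟩

end cover

end Cfsg.Agent.H948.Ppd
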