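import Cfsg.Agent.H48.CrossB
import Cfsg.Agent.S0261
import Cfsg.Agent.S0262
import Cfsg.Agent.H911.SLTwoGen
import Cfsg.Agent.ChevalleyStructure.SL2Hom

/-!
# Lifting homomorphisms of `SL_2(E)` through central extensions by `p'`-groups (helper948)

* `map_eq_mul` : an additive map of a finite field commuting with the squares is a multiplication;
* `exists_bruhat`, `mem_closure_SL` : elementary facts on `SL_2`;
* `noCE_SL` : `SL_2(E)` has no central extensions of order `r ≠ p` generated by `p`-elements;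
* **`exists_lift_hom`** : `f : Y → G` onto with central kernel of order prime to `p`, `σ' : SL_2(E) → G`: there is
  `σ : SL_2(E) → Y` with `f ∘ σ = σ'`.
-/

set_option autoImplicit false
set_option linter.unusedSectionVars false

namespace Cfsg.Agent.H948.Ppd

open Matrix Cfsg.Agent.Nodes.RGDLift Cfsg.Agent.H911.SLTwo Cfsg.Agent.H67.Cross Cfsg.Agent.H48.CrossB
open scoped MatrixGroups

universe u v w

/-! ### squares -/

section field

variable {E : Type*} [Field E] [Finite E]

theorem exists_sq_sub (c : E) : ∃ u v : E, c = u ^ 2 - v ^ 2 := by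
  by_cases h2 : (2 : E) = 0
  · have hch : ringChar E = 2 := CharP.ringChar_of_prime_eq_zero Nat.prime_two (by exact_mod_cast h2)
    obtain ⟨u, hu⟩ := FiniteField.isSquare_of_char_two hch c
    exact ⟨u, 0, by rw [hu]; ring⟩
  · refine ⟨(c + 1) / 2, (c - 1) / 2, ?_⟩
    field_simp
    ring

theorem map_eq_mul {α : E → E} (hadd : ∀ a b, α (a + b) = α a + α b)
    (hsq : ∀ s : Eˣ, ∀ a, α ((s : E) ^ 2 * a) = (s : E) ^ 2 * α a) (c : E) : α c = c * α 1 := by
  have h0 : α 0 = 0 := by
    have h1 := hadd 0 0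
    rw [add_zero] at h1
    exact (left_eq_add.1 h1)
  have hsq' : ∀ s : E, ∀ a, α (s ^ 2 * a) = s ^ 2 * α a := by
    intro s a
    by_cases hs : s = 0
    · subst hs
      rw [zero_pow two_ne_zero, zero_mul, zero_mul, h0]
    · exact hsq (Units.mk0 s hs) a
  obtain ⟨u, v, rfl⟩ := exists_sq_sub c
  have h1 := hadd (u ^ 2 - v ^ 2) (v ^ 2)
  have h2 := hsq' u 1
  have h3 := hsq' v 1
  rw [mul_one] at h2 h3
  rw [sub_add_cancel, h2, h3] at h1
  rw [sub_mul, h1]
  ring

end field

/-! ### `SL_2` -/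

section sl

variable {E : Type*} [Field E]

theorem exists_bruhat {x : SL(2, E)} (h : x.1 1 0 ≠ 0) :
    ∃ (a : E) (c : Eˣ) (b : E), x = U a * hh c * ww * U b := by
  have hdet := det_eq x
  have hne : -(x.1 1 0)⁻¹ ≠ 0 := neg_ne_zero.2 (inv_ne_zero h)
  refine ⟨x.1 0 0 / x.1 1 0, Units.mk0 _ hne, x.1 1 1 / x.1 1 0, ?_⟩
  apply ext' <;> simp only [m00, m01, m10, m11, U00, U01, U10, U11, hh00, hh01, hh10, hh11, ww00, ww01, ww10, ww11,
    Units.val_mk0, Units.val_inv_eq_inv_val]
  · field_simp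
    ring
  · field_simp
    linear_combination (-(x.1 1 0)) * hdet
  · field_simp
    ring
  · field_simp
    ring

theorem mem_closure_SL (g : SL(2, E)) : g ∈ Subgroup.closure (Set.range (U (K := E)) ∪ Set.range (Lo (K := E))) := by
  have h := Cfsg.Agent.ChevalleyStructure.SL2Hom.mem_closure_SL2 g
  have e1 : Set.range (Cfsg.Agent.ChevalleyStructure.SL2Hom.up (F := E)) = Set.range (U (K := E)) := by
    congr 1
  have e2 : Set.range (Cfsg.Agent.ChevalleyStructure.SL2Hom.lo (F := E)) = Set.range (Lo (K := E)) := by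
    congr 1
  rwa [e1, e2] at h

theorem hh_ww (a : Eˣ) : hh a * ww = U (a : E) * Lo (-((a⁻¹ : Eˣ) : E)) * U (a : E) := by
  have h := Units.mul_inv a
  apply ext' <;> simp only [m00, m01, m10, m11, U00, U01, U10, U11, Lo00, Lo01, Lo10, Lo11, hh00, hh01, hh10, hh11,
    ww00, ww01, ww10, ww11]
  · linear_combination h
  · linear_combination (a : E) * h
  · ring
  · linear_combination h

theorem ww_U (t : E) : ww * U t * ww⁻¹ = Lo (-t) := by
  apply ext' <;> simp only [m00, m01, m10, m11, U00, U01, U10, U11, Lo00, Lo01, Lo10, Lo11, i00, i01, i10, i11,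
    ww00, ww01, ww10, ww11] <;> ring

/-- `SL(2, F)` has no central extension of prime order `r ≠ p` generated by `p`-elements. -/
theorem noCE_SL [Finite E] {p r : ℕ} (hp : p.Prime) [CharP E p] (hr : r.Prime) (hne : r ≠ p) :
    NoCE p r SL(2, E) := by
  have : Fintype E := Fintype.ofFinite E
  have : Fact r.Prime := ⟨hr⟩
  have : Fact p.Prime := ⟨hp⟩
  by_cases h2 : r = 2
  · subst h2
    have hodd : Odd (Fintype.card E) := by
      have h1 : ringChar E ≠ 2 := fun h0 => hne ((ringChar.eq E p).symm.trans h0).symm |>.elim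
      exact Nat.odd_iff.2 (FiniteField.odd_card_of_char_ne_two h1)
    let P0 : Sylow 2 SL(2, E) := default
    obtain ⟨k, -, ⟨e⟩⟩ := Cfsg.Agent.S0261.result hodd P0
    exact NoCE.of_quaternion hp (Ne.symm hne) P0.not_dvd_index e
  · exact NoCE.of_cyclic_sylow hp hr hne fun S => Cfsg.Agent.S0262.result p r h2 hne S

end sl

/-! ### lifts -/

section lift

variable {Y : Type u} {G : Type v} [Group Y] [Finite Y] [Group G] {f : Y →* G} {p : ℕ} [hp : Fact p.Prime]

/-- **Lifting homomorphisms of `SL_2(E)`.** -/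
theorem exists_lift_hom (hf : f.ker ≤ Subgroup.center Y) (hcop : (Nat.card f.ker).Coprime p)
    (hs : Function.Surjective f) {E : Type w} [Field E] [Finite E] [CharP E p] (σ' : SL(2, E) →* G) :
    ∃ σ : SL(2, E) →* Y, ∀ x, f (σ x) = σ' x := by
  classical
  let H : Subgroup (SL(2, E) × Y) :=
    MonoidHom.eqLocus (σ'.comp (MonoidHom.fst SL(2, E) Y)) (f.comp (MonoidHom.snd SL(2, E) Y))
  have hH : ∀ x : SL(2, E) × Y, x ∈ H ↔ σ' x.1 = f x.2 := fun _ => Iff.rfl
  let L : Subgroup (SL(2, E) × Y) := Subgroup.closure {x | x ∈ H ∧ ∃ k : ℕ, x ^ p ^ k = 1}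
  have hLH : L ≤ H := by
    rw [Subgroup.closure_le]
    exact fun x hx => hx.1
  let φ : L →* SL(2, E) := (MonoidHom.fst SL(2, E) Y).comp L.subtype
  have hpx : ∀ x : SL(2, E), (∃ k : ℕ, x ^ p ^ k = 1) → x ∈ φ.range := by
    rintro x ⟨k, hk⟩
    obtain ⟨y₀, hy₀⟩ := hs (σ' x)
    obtain ⟨y, hy, hyk⟩ := exists_lift (f := f) hcop (y := y₀) (k := k) (by rw [hy₀, ← map_pow, hk, map_one])
    refine ⟨⟨(x, y), Subgroup.subset_closure ⟨?_, k, ?_⟩⟩, rfl⟩
    · rw [hH]
      simp only
      rw [hy, hy₀]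
    · exact Prod.ext hk hyk
  have hφ : Function.Surjective φ := by
    rw [← MonoidHom.range_eq_top, eq_top_iff]
    intro g _
    have h1 : Subgroup.closure (Set.range (U (K := E)) ∪ Set.range (Lo (K := E))) ≤ φ.range := by
      rw [Subgroup.closure_le]
      rintro _ (⟨t, rfl⟩ | ⟨t, rfl⟩)
      · refine hpx _ ⟨1, ?_⟩
        rw [pow_one, U_pow, CharP.cast_eq_zero, zero_mul, U_zero]
      · refine hpx _ ⟨1, ?_⟩
        have h2 : ∀ n : ℕ, (Lo t : SL(2, E)) ^ n = Lo (n * t) := by
          intro n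
          induction n with
          | zero => rw [pow_zero, Nat.cast_zero, zero_mul, Lo_zero]
          | succ n ih => rw [pow_succ, ih, Lo_mul, Nat.cast_succ]; congr 1; ring
        rw [pow_one, h2, CharP.cast_eq_zero, zero_mul, Lo_zero]
    exact h1 (mem_closure_SL g)
  have hker : ∀ x : L, φ x = 1 → f (x : SL(2, E) × Y).2 = 1 := by
    intro x hx
    have h1 := (hH _).1 (hLH x.2)
    have h2 : (x : SL(2, E) × Y).1 = 1 := hx
    rw [← h1, h2, map_one]
  have hcen : φ.ker ≤ Subgroup.center L := by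
    intro x hx
    rw [Subgroup.mem_center_iff]
    intro y
    have h2 : (x : SL(2, E) × Y).1 = 1 := hx
    apply Subtype.ext
    apply Prod.ext
    · change (y : SL(2, E) × Y).1 * (x : SL(2, E) × Y).1 = (x : SL(2, E) × Y).1 * (y : SL(2, E) × Y).1
      rw [h2, mul_one, one_mul]
    · exact Subgroup.mem_center_iff.1 (hf (MonoidHom.mem_ker.2 (hker x hx))) _
  have hcardk : (Nat.card φ.ker).Coprime p := by
    refine Nat.Coprime.coprime_dvd_left ?_ hcop
    refine Subgroup.card_dvd_of_injective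
      ((((MonoidHom.snd SL(2, E) Y).comp L.subtype).comp φ.ker.subtype).codRestrict f.ker
        (fun x => MonoidHom.mem_ker.2 (hker _ x.2))) ?_
    intro x y e
    have e1 : ((x : L) : SL(2, E) × Y).2 = ((y : L) : SL(2, E) × Y).2 := congrArg (fun z : f.ker => (z : Y)) e
    have e2 : ((x : L) : SL(2, E) × Y).1 = 1 := x.2
    have e3 : ((y : L) : SL(2, E) × Y).1 = 1 := y.2
    exact Subtype.ext (Subtype.ext (Prod.ext (e2.trans e3.symm) e1))
  have hgen : Subgroup.closure {x : L | ∃ k : ℕ, x ^ p ^ k = 1} = ⊤ := by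
    rw [eq_top_iff]
    have h1 : (Subgroup.closure {x : L | ∃ k : ℕ, x ^ p ^ k = 1}).map L.subtype = L := by
      rw [MonoidHom.map_closure]
      change _ = Subgroup.closure _
      congr 1
      ext x
      constructor
      · rintro ⟨y, ⟨k, hk⟩, rfl⟩
        exact ⟨hLH y.2, k, by rw [← map_pow, hk, map_one]⟩
      · rintro ⟨hx, k, hk⟩
        exact ⟨⟨x, Subgroup.subset_closure ⟨hx, k, hk⟩⟩, ⟨k, Subtype.ext hk⟩, rfl⟩
    rintro ⟨x, hx⟩ -
    rw [← h1] at hx
    obtain ⟨y, hy, e⟩ := hx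
    have : y = ⟨x, (by rw [← e]; exact y.2)⟩ := Subtype.ext e
    rwa [this] at hy
  have hR : RkB p 1 SL(2, E) := RkB.of_noCE fun r hr hne => noCE_SL hp.out hr hne
  have h1 := Nat.dvd_one.1 (hR.any φ hφ hcen hcardk hgen)
  have hinj : Function.Injective φ := by
    rw [← MonoidHom.ker_eq_bot_iff]
    exact Subgroup.card_eq_one.1 h1
  let e := MulEquiv.ofBijective φ ⟨hinj, hφ⟩
  refine ⟨((MonoidHom.snd SL(2, E) Y).comp L.subtype).comp e.symm.toMonoidHom, fun x => ?_⟩
  have h2 := (hH _).1 (hLH (e.symm x).2)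
  have h3 : ((e.symm x : L) : SL(2, E) × Y).1 = x := e.apply_symm_apply x
  rw [h3] at h2
  exact h2.symm

end lift

end Cfsg.Agent.H948.Ppd
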